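import Groth.Agent.DescFlat.LineDesc
import Groth.Agent.S0233
import Groth.Agent.PicCl.Basic
import Mathlib.AlgebraicGeometry.AffineSpace
import Mathlib.RingTheory.Polynomial.UniqueFactorization
import Mathlib.AlgebraicGeometry.Noetherian

/-!
# Opens of affine spaces: flatness, fibres, Picard groups
-/

set_option autoImplicit false
set_option linter.style.haveILetI false
set_option backward.isDefEq.respectTransparency false
set_option backward.isDefEq.respectTransparency.types false

universe u

open CategoryTheory CategoryTheory.Limits AlgebraicGeometry TopologicalSpace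

noncomputable section

namespace Groth.Agent.DescFlat

theorem flat_affineSpace (n : Type u) (S : Scheme.{u}) : Flat (𝔸(n; S) ↘ S) := by
  wlog hS : ∃ R, S = Spec R
  · refine (IsZariskiLocalAtTarget.iff_of_openCover (P := @Flat) S.affineCover).mpr ?_
    intro i
    have := this n (S.affineCover.X i) ⟨_, rfl⟩
    rwa [← (AffineSpace.isPullback_map (n := n) (S.affineCover.f i)).isoPullback_hom_snd,
      MorphismProperty.cancel_left_of_respectsIso (P := @Flat)] at this
  obtain ⟨R, rfl⟩ := hS
  rw [← MorphismProperty.cancel_left_of_respectsIso (P := @Flat) (AffineSpace.SpecIso n R).inv,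
    AffineSpace.SpecIso_inv_over, HasRingHomProperty.Spec_iff (P := @Flat)]
  exact (RingHom.flat_algebraMap_iff (R := R) (S := MvPolynomial n R)).mpr inferInstance

/-- A scheme open in the affine space over a field. -/
theorem nonempty_iso_unit (K : CommRingCat.{u}) (hK : IsField K) (n : Type u) {F : Scheme.{u}}
    (j : F ⟶ 𝔸(n; Spec K)) [IsOpenImmersion j] {M : F.Modules} (hM : PicF.IsInvertible M) :
    Nonempty (M ≅ Coh.structureModule F) := by
  letI := hK.toField
  haveI : IsDomain (MvPolynomial n K) := inferInstance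
  haveI : UniqueFactorizationMonoid (MvPolynomial n K) := inferInstance
  let j' : F ⟶ Spec (CommRingCat.of (MvPolynomial n K)) := j ≫ (AffineSpace.SpecIso n K).hom
  let e := j'.isoOpensRange
  obtain ⟨i⟩ := Groth.Agent.S0233.result (MvPolynomial n K) j'.opensRange
    ((Scheme.Modules.pullback e.inv).obj M) (PicCl.isInvertible_pullback e.inv hM)
  exact ⟨((Scheme.Modules.pullbackId F).app M).symm ≪≫
    (Scheme.Modules.pullbackCongr e.hom_inv_id.symm).app M ≪≫
    ((Scheme.Modules.pullbackComp e.hom e.inv).app M).symm ≪≫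
    (Scheme.Modules.pullback e.hom).mapIso i ≪≫ QCoh.pullbackUnitIso e.hom⟩

variable {S Y : Scheme.{u}} (g : Y ⟶ S) {n : Type u} (U : (𝔸(n; S)).Opens) (y : Y)

/-- The fibres are open in affine spaces over fields. -/
theorem exists_fibre_immersion :
    ∃ j : (pullback.fst g (U.ι ≫ (𝔸(n; S) ↘ S))).fiber y ⟶ 𝔸(n; Spec (Y.residueField y)), IsOpenImmersion j := by
  set p := pullback.fst g (U.ι ≫ (𝔸(n; S) ↘ S))
  have h1 : IsPullback (p.fiberι y) (p.fiberToSpecResidueField y) p (Y.fromSpecResidueField y) :=
    IsPullback.of_hasPullback _ _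
  have h2 : IsPullback (pullback.snd g (U.ι ≫ (𝔸(n; S) ↘ S))) p (U.ι ≫ (𝔸(n; S) ↘ S)) g :=
    (IsPullback.of_hasPullback _ _).flip
  have h3 := h1.paste_horiz h2
  have h4 := AffineSpace.isPullback_map (n := n) (Y.fromSpecResidueField y ≫ g)
  let j := h4.lift ((p.fiberι y ≫ pullback.snd g _) ≫ U.ι) (p.fiberToSpecResidueField y)
    (by rw [Category.assoc]; exact h3.w)
  have hj1 : j ≫ AffineSpace.map n (Y.fromSpecResidueField y ≫ g) = _ := h4.lift_fst _ _ _
  have hj2 : j ≫ (𝔸(n; Spec (Y.residueField y)) ↘ Spec (Y.residueField y)) = _ := h4.lift_snd _ _ _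
  refine ⟨j, ?_⟩
  have h5 : IsPullback (p.fiberι y ≫ pullback.snd g _) j U.ι (AffineSpace.map n (Y.fromSpecResidueField y ≫ g)) :=
    IsPullback.of_bot (by rw [hj2]; exact h3) hj1.symm h4
  exact MorphismProperty.of_isPullback (P := @IsOpenImmersion) h5 inferInstance

end Groth.Agent.DescFlat
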