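import Groth.Agent.FlatPull.Core
import Groth.Agent.InvExt.Local
import Groth.Agent.VarDim.Curve
import Groth.Agent.ZClosLib.HeightOneHull
import Mathlib.RingTheory.Flat.FaithfullyFlat.Basic

/-!
# Factoring over a normal domain

`dvd_of_height_one`: in a normal noetherian domain divisibility can be tested at height one primes.
`exists_base_factor`: along a flat local map with prime saturated extensions of the height one primes,
a divisor of an element of the base is an element of the base up to a unit.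
-/

set_option autoImplicit false
set_option linter.style.haveILetI false

universe u

namespace Groth.Agent.DescFlat

open Groth.Agent.FlatPull

variable {A : Type u} [CommRing A] [IsDomain A] [IsNoetherianRing A] [IsIntegrallyClosed A]

/-- Divisibility is tested at height one primes. -/
theorem dvd_of_height_one {a b : A} (hb : b ≠ 0)
    (h : ∀ p : Ideal A, p.IsPrime → p.height = 1 → ∃ s ∉ p, b ∣ s * a) : b ∣ a := by
  by_contra hne
  have hcl : Ideal.Quotient.mk (Ideal.span {b}) a ≠ 0 := fun h0 =>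
    hne (Ideal.mem_span_singleton.mp (Ideal.Quotient.eq_zero_iff_mem.mp h0))
  obtain ⟨p, hp, hle⟩ := exists_le_isAssociatedPrime_of_isNoetherianRing A _ hcl
  obtain ⟨s, hs, hd⟩ := h p hp.isPrime (ZClosLib.HeightOneHull.height_eq_one_of_mem_associatedPrimes hb hp)
  refine hs (hle ?_)
  rw [Submodule.mem_colon_singleton, Submodule.mem_bot, Algebra.smul_def, Ideal.Quotient.algebraMap_eq,
    ← map_mul, Ideal.Quotient.eq_zero_iff_mem, Ideal.mem_span_singleton]
  exact hd

/-- A uniformizer at a height one prime. -/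
theorem exists_uniformizer (p : Ideal A) [p.IsPrime] (hp : p.height = 1) :
    ∃ π ∈ p, π ≠ 0 ∧ (∀ r ∈ p, ∃ s ∉ p, π ∣ s * r) ∧
      ∀ a : A, a ≠ 0 → ∃ (m : ℕ) (s c : A), s ∉ p ∧ c ∉ p ∧ s * a = π ^ m * c := by
  let L := Localization.AtPrime p
  haveI : IsDomain L := IsLocalization.isDomain_localization p.primeCompl_le_nonZeroDivisors
  haveI : IsIntegrallyClosed L :=
    isIntegrallyClosed_of_isLocalization L p.primeCompl p.primeCompl_le_nonZeroDivisors
  haveI : IsNoetherianRing L := IsLocalization.isNoetherianRing p.primeCompl _ inferInstance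
  haveI : IsDiscreteValuationRing L := VarDim.isDiscreteValuationRing_of_ringKrullDim_eq_one L (by
    rw [IsLocalization.AtPrime.ringKrullDim_eq_height p L, hp]
    rfl)
  obtain ⟨ϖ, hϖ⟩ := IsDiscreteValuationRing.exists_irreducible L
  obtain ⟨π, t, rfl⟩ := IsLocalization.exists_mk'_eq p.primeCompl ϖ
  have hass : Associated (IsLocalization.mk' L π t) (algebraMap A L π) :=
    ⟨(IsLocalization.map_units L t).unit, IsLocalization.mk'_spec L π t⟩
  have hirr : Irreducible (algebraMap A L π) := hass.irreducible hϖ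
  have hinj : Function.Injective (algebraMap A L) :=
    IsLocalization.injective L p.primeCompl_le_nonZeroDivisors
  have hmax : IsLocalRing.maximalIdeal L = Ideal.span {algebraMap A L π} :=
    (IsDiscreteValuationRing.irreducible_iff_uniformizer _).mp hirr
  have hmem : ∀ r : A, r ∈ p ↔ algebraMap A L π ∣ algebraMap A L r := fun r => by
    rw [← IsLocalization.AtPrime.to_map_mem_maximal_iff L p, hmax, Ideal.mem_span_singleton]
  refine ⟨π, (hmem π).mpr dvd_rfl, fun h => hirr.ne_zero (by rw [h, map_zero]), fun r hr => ?_, fun a ha => ?_⟩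
  · obtain ⟨w, hw⟩ := (hmem r).mp hr
    obtain ⟨c, s, rfl⟩ := IsLocalization.exists_mk'_eq p.primeCompl w
    refine ⟨s, s.2, c, hinj ?_⟩
    rw [map_mul, map_mul, hw, ← IsLocalization.mk'_spec L c s]
    ring
  · have ha' : algebraMap A L a ≠ 0 := fun h => ha (hinj (h.trans (map_zero _).symm))
    obtain ⟨m, u, hu⟩ := IsDiscreteValuationRing.eq_unit_mul_pow_irreducible ha' hirr
    obtain ⟨c, s, hcs⟩ := IsLocalization.exists_mk'_eq p.primeCompl (u : L)
    refine ⟨m, s, c, s.2, (IsLocalization.AtPrime.isUnit_mk'_iff L p c s).mp (hcs.symm ▸ u.isUnit), hinj ?_⟩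
    rw [map_mul, map_mul, map_pow, hu, ← hcs, ← IsLocalization.mk'_spec L c s]
    ring

variable {B : Type u} [CommRing B] [Algebra A B] [Module.Flat A B]

omit [IsNoetherianRing A] [IsIntegrallyClosed A] in
lemma isSMulRegular_algebraMap {a : A} (ha : a ≠ 0) {b : B} (h : algebraMap A B a * b = 0) : b = 0 := by
  have hm : Function.Injective (LinearMap.lsmul A A a) := fun x y hxy => mul_left_cancel₀ ha hxy
  have h1 := Module.Flat.lTensor_preserves_injective_linearMap (M := B) _ hm
  apply (TensorProduct.rid A B).symm.injective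
  rw [map_zero]
  refine h1 ?_
  rw [map_zero, TensorProduct.rid_symm_apply, LinearMap.lTensor_tmul]
  show b ⊗ₜ[A] (a • (1 : A)) = 0
  rw [← TensorProduct.smul_tmul, Algebra.smul_def, h, TensorProduct.zero_tmul]

omit [IsNoetherianRing A] [IsIntegrallyClosed A] in
lemma algebraMap_mul_cancel {a : A} (ha : a ≠ 0) {b b' : B}
    (h : algebraMap A B a * b = algebraMap A B a * b') : b = b' :=
  sub_eq_zero.mp (isSMulRegular_algebraMap ha (by rw [mul_sub, h, sub_self]))

/-- The saturation of the extension of a prime is prime. -/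
def FibPrime (p : Ideal A) (B : Type u) [CommRing B] [Algebra A B] : Prop :=
  ∀ b b' : B, (∃ s ∉ p, algebraMap A B s * (b * b') ∈ p.map (algebraMap A B)) →
    (∃ s ∉ p, algebraMap A B s * b ∈ p.map (algebraMap A B)) ∨
      (∃ s ∉ p, algebraMap A B s * b' ∈ p.map (algebraMap A B))

variable [IsLocalRing A] [IsLocalRing B] [IsLocalHom (algebraMap A B)]

omit [IsNoetherianRing A] [IsIntegrallyClosed A] in
lemma mem_of_algebraMap_mem_map {p : Ideal A} {a : A} (h : algebraMap A B a ∈ p.map (algebraMap A B)) :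
    a ∈ p := by
  haveI : Module.FaithfullyFlat A B := Module.FaithfullyFlat.of_flat_of_isLocalHom
  rw [← Ideal.comap_map_eq_self_of_faithfullyFlat (B := B) p]
  exact h

/-- Splitting orders of a product. -/
theorem exists_split (p : Ideal A) [p.IsPrime] (hfib : FibPrime p B) {π : A} (hπp : π ∈ p) (hπ0 : π ≠ 0)
    (hgen : ∀ r ∈ p, ∃ s ∉ p, π ∣ s * r) :
    ∀ (m : ℕ) (b b' : B) (s c : A), s ∉ p → c ∉ p →
      algebraMap A B s * (b * b') = algebraMap A B (π ^ m * c) →
      ∃ n n' : ℕ, n + n' = m ∧ (∃ s' ∉ p, algebraMap A B π ^ n ∣ algebraMap A B s' * b) ∧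
        (∃ s' ∉ p, algebraMap A B π ^ n' ∣ algebraMap A B s' * b') := by
  have sat : ∀ b : B, (∃ s ∉ p, algebraMap A B s * b ∈ p.map (algebraMap A B)) →
      ∃ s ∉ p, algebraMap A B π ∣ algebraMap A B s * b := by
    rintro b ⟨s, hs, hb⟩
    suffices H : ∀ x ∈ p.map (algebraMap A B), ∃ t ∉ p, algebraMap A B π ∣ algebraMap A B t * x by
      obtain ⟨t, ht, hd⟩ := H _ hb
      exact ⟨t * s, fun h => (‹p.IsPrime›.mem_or_mem h).elim ht hs, by rwa [map_mul, mul_assoc]⟩
    intro x hx
    induction hx using Submodule.span_induction with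
    | mem x h =>
      obtain ⟨r, hr, rfl⟩ := h
      obtain ⟨t, ht, hd⟩ := hgen r hr
      exact ⟨t, ht, by rw [← map_mul]; exact map_dvd _ hd⟩
    | zero => exact ⟨1, p.ne_top_iff_one.mp ‹p.IsPrime›.ne_top, by simp⟩
    | add x y _ _ hx hy =>
      obtain ⟨t, ht, hd⟩ := hx
      obtain ⟨t', ht', hd'⟩ := hy
      refine ⟨t * t', fun h => (‹p.IsPrime›.mem_or_mem h).elim ht ht', ?_⟩
      rw [map_mul, mul_add]
      exact dvd_add (hd.trans ⟨algebraMap A B t', by ring⟩) (hd'.trans ⟨algebraMap A B t, by ring⟩)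
    | smul r x _ hx =>
      obtain ⟨t, ht, hd⟩ := hx
      exact ⟨t, ht, hd.trans ⟨r, by rw [smul_eq_mul]; ring⟩⟩
  intro m
  induction m with
  | zero =>
    exact fun b b' s c _ _ _ => ⟨0, 0, rfl, ⟨1, p.ne_top_iff_one.mp ‹p.IsPrime›.ne_top, by simp⟩,
      ⟨1, p.ne_top_iff_one.mp ‹p.IsPrime›.ne_top, by simp⟩⟩
  | succ m ih =>
    intro b b' s c hs hc he
    have he' : algebraMap A B s * (b * b') = algebraMap A B π * algebraMap A B (π ^ m * c) := by
      rw [he, ← map_mul, ← mul_assoc π, ← pow_succ']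
    have hmem : algebraMap A B s * (b * b') ∈ p.map (algebraMap A B) := by
      rw [he']; exact Ideal.mul_mem_right _ _ (Ideal.mem_map_of_mem _ hπp)
    rcases hfib b b' ⟨s, hs, hmem⟩ with hb | hb
    · obtain ⟨s', hs', b₂, hb₂⟩ := sat b hb
      obtain ⟨n, n', hn, h1, h2⟩ := ih b₂ b' s (s' * c) hs
        (fun h => (‹p.IsPrime›.mem_or_mem h).elim hs' hc) (algebraMap_mul_cancel hπ0 (by
          calc algebraMap A B π * (algebraMap A B s * (b₂ * b'))
              = (algebraMap A B π * b₂) * (algebraMap A B s * b') := by ring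
            _ = algebraMap A B s' * (algebraMap A B s * (b * b')) := by rw [← hb₂]; ring
            _ = algebraMap A B π * algebraMap A B (π ^ m * (s' * c)) := by
              rw [he']; simp only [map_mul, map_pow]; ring))
      obtain ⟨t, ht, hd⟩ := h1
      refine ⟨n + 1, n', by omega, ⟨t * s', fun h => (‹p.IsPrime›.mem_or_mem h).elim ht hs', ?_⟩, h2⟩
      rw [map_mul, mul_assoc, hb₂, pow_succ, mul_left_comm, mul_comm (algebraMap A B π ^ n)]
      exact mul_dvd_mul_left _ hd
    · obtain ⟨s', hs', b₂, hb₂⟩ := sat b' hb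
      obtain ⟨n, n', hn, h1, h2⟩ := ih b b₂ s (s' * c) hs
        (fun h => (‹p.IsPrime›.mem_or_mem h).elim hs' hc) (algebraMap_mul_cancel hπ0 (by
          calc algebraMap A B π * (algebraMap A B s * (b * b₂))
              = (algebraMap A B π * b₂) * (algebraMap A B s * b) := by ring
            _ = algebraMap A B s' * (algebraMap A B s * (b * b')) := by rw [← hb₂]; ring
            _ = algebraMap A B π * algebraMap A B (π ^ m * (s' * c)) := by
              rw [he']; simp only [map_mul, map_pow]; ring))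
      obtain ⟨t, ht, hd⟩ := h2
      refine ⟨n, n' + 1, by omega, h1, ⟨t * s', fun h => (‹p.IsPrime›.mem_or_mem h).elim ht hs', ?_⟩⟩
      rw [map_mul, mul_assoc, hb₂, pow_succ, mul_left_comm, mul_comm (algebraMap A B π ^ n')]
      exact mul_dvd_mul_left _ hd

/-- A divisor of a nonzero element of the base is an element of the base up to a unit. -/
theorem exists_base_factor (hfib : ∀ p : Ideal A, p.IsPrime → p.height = 1 → FibPrime p B)
    {a : A} (ha : a ≠ 0) {b b' : B} (hbb : b * b' = algebraMap A B a) :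
    ∃ (a₁ : A) (w : B), a₁ ≠ 0 ∧ IsUnit w ∧ algebraMap A B a₁ = b * w := by
  classical
  obtain ⟨S, hSp, hS⟩ := InvExt.exists_finset_height_one ha
  have hdata : ∀ p : {p // p ∈ S}, ∃ (π : A) (n n' m : ℕ) (s c : A),
      (π ≠ 0 ∧ π ∈ p.1 ∧ s ∉ p.1 ∧ c ∉ p.1 ∧ s * a = π ^ m * c ∧ n + n' = m) ∧
        (∃ s' ∉ p.1, algebraMap A B π ^ n ∣ algebraMap A B s' * b) ∧
        (∃ s' ∉ p.1, algebraMap A B π ^ n' ∣ algebraMap A B s' * b') := by
    rintro ⟨p, hp⟩
    haveI := (hSp p hp).1
    obtain ⟨π, hπp, hπ0, hgen, hord⟩ := exists_uniformizer p (hSp p hp).2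
    obtain ⟨m, s, c, hs, hc, he⟩ := hord a ha
    obtain ⟨n, n', hn, h1, h2⟩ := exists_split p (hfib p inferInstance (hSp p hp).2) hπp hπ0 hgen m b b' s c
      hs hc (by rw [hbb, ← map_mul, he])
    exact ⟨π, n, n', m, s, c, ⟨hπ0, hπp, hs, hc, he, hn⟩, h1, h2⟩
  choose π n n' m s c h0 hn hn' using hdata
  haveI : ∀ i : {p // p ∈ S}, (i.1 : Ideal A).IsPrime := fun i => (hSp i.1 i.2).1
  -- ideals of the prescribed orders
  have key : ∀ (x : B) (k : {p // p ∈ S} → ℕ),
      (∀ i, ∃ s' ∉ i.1, algebraMap A B (π i) ^ k i ∣ algebraMap A B s' * x) →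
      x ∈ (symb (fun i : {p // p ∈ S} => i.1) π k).map (algebraMap A B) := by
    intro x k hx
    let J : {p // p ∈ S} → Ideal A := fun i =>
      { carrier := {a | ∃ t ∉ i.1, π i ^ k i ∣ t * a}
        add_mem' := fun {a b} => by
          rintro ⟨t, ht, h⟩ ⟨t', ht', h'⟩
          exact ⟨t * t', fun hm => ((hSp i.1 i.2).1.mem_or_mem hm).elim ht ht', by
            rw [mul_add]
            exact dvd_add (h.trans ⟨t', by ring⟩) (h'.trans ⟨t, by ring⟩)⟩
        zero_mem' := ⟨1, (Ideal.ne_top_iff_one _).mp (hSp i.1 i.2).1.ne_top, by simp⟩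
        smul_mem' := fun r a => by
          rintro ⟨t, ht, h⟩
          exact ⟨t, ht, h.trans ⟨r, by rw [smul_eq_mul]; ring⟩⟩ }
    have hJ : (⨅ i, J i) = symb (fun i : {p // p ∈ S} => i.1) π k := by
      ext a
      rw [Ideal.mem_iInf]
      rfl
    rw [← hJ]
    refine mem_map_iInf J fun i => ?_
    obtain ⟨t, ht, d, hd⟩ := hx i
    refine mem_map_of_mul_mem (J i) t ?_ ?_
    · rintro r ⟨t', ht', h⟩
      exact ⟨t' * t, fun hm => ((hSp i.1 i.2).1.mem_or_mem hm).elim ht' ht, by rwa [mul_assoc]⟩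
    · rw [hd, ← map_pow]
      exact Ideal.mul_mem_right _ _ (Ideal.mem_map_of_mem _
        ⟨1, (Ideal.ne_top_iff_one _).mp (hSp i.1 i.2).1.ne_top, by simp⟩)
  have hb0 := key b n hn
  have hb0' := key b' n' hn'
  set J := symb (fun i : {p // p ∈ S} => i.1) π n
  set J' := symb (fun i : {p // p ∈ S} => i.1) π n'
  -- `b` divides the extension of `J`
  have hJJ : ∀ x ∈ J, ∀ y ∈ J', a ∣ x * y := by
    intro x hx y hy
    refine dvd_of_height_one ha fun p hp hh => ?_
    by_cases hap : a ∈ p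
    swap
    · exact ⟨a, hap, dvd_mul_right _ _⟩
    obtain ⟨i, rfl⟩ : ∃ i : {p // p ∈ S}, i.1 = p := ⟨⟨p, hS p hp hh hap⟩, rfl⟩
    obtain ⟨t, ht, d, hd⟩ := hx i
    obtain ⟨t', ht', d', hd'⟩ := hy i
    obtain ⟨-, -, hs, hc, he, hnm⟩ := h0 i
    refine ⟨c i * t * t', fun hh => (hp.mem_or_mem hh).elim
      (fun hh => (hp.mem_or_mem hh).elim hc ht) ht', d * d' * s i, ?_⟩
    calc c i * t * t' * (x * y) = c i * ((t * x) * (t' * y)) := by ring
      _ = (π i ^ m i * c i) * (d * d') := by rw [hd, hd', ← hnm, pow_add]; ring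
      _ = a * (d * d' * s i) := by rw [← he]; ring
  have hdvd : ∀ x ∈ J, b ∣ algebraMap A B x := by
    intro x hx
    have h1 : ∀ y ∈ J'.map (algebraMap A B), algebraMap A B a ∣ algebraMap A B x * y := by
      intro y hy
      induction hy using Submodule.span_induction with
      | mem y h =>
        obtain ⟨r, hr, rfl⟩ := h
        rw [← map_mul]
        exact map_dvd _ (hJJ x hx r hr)
      | zero => simp
      | add y z _ _ hy hz => rw [mul_add]; exact dvd_add hy hz
      | smul r y _ hy => exact hy.trans ⟨r, by rw [smul_eq_mul]; ring⟩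
    obtain ⟨e, he⟩ := h1 b' hb0'
    refine ⟨e, algebraMap_mul_cancel ha ?_⟩
    calc algebraMap A B a * algebraMap A B x = b * (algebraMap A B x * b') := by rw [← hbb]; ring
      _ = algebraMap A B a * (b * e) := by rw [he]; ring
  -- hence is generated by `b`
  obtain ⟨a₁, hw⟩ : ∃ a₁ : A, ∃ w : B, IsUnit w ∧ algebraMap A B a₁ = b * w := by
    by_contra hne
    have hle : J.map (algebraMap A B) ≤ Ideal.span {b} * IsLocalRing.maximalIdeal B := by
      refine Ideal.map_le_iff_le_comap.mpr fun x hx => ?_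
      obtain ⟨w, hw⟩ := hdvd x hx
      refine Ideal.mem_span_singleton_mul.mpr ⟨w, ?_, hw.symm⟩
      exact (IsLocalRing.mem_maximalIdeal w).mpr fun hu => hne ⟨x, w, hu, hw⟩
    obtain ⟨w, hw, he⟩ := Ideal.mem_span_singleton_mul.mp (hle hb0)
    have h1 : algebraMap A B a * w = algebraMap A B a * 1 := by
      rw [← hbb, mul_one, mul_assoc, mul_comm b' w, ← mul_assoc, he]
    rw [algebraMap_mul_cancel ha h1] at hw
    exact (IsLocalRing.mem_maximalIdeal (1 : B)).mp hw isUnit_one
  obtain ⟨w, hwu, hw⟩ := hw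
  refine ⟨a₁, w, fun h0 => ha ?_, hwu, hw⟩
  have h1 : b = 0 := by
    rw [h0, map_zero] at hw
    exact hwu.mul_left_eq_zero.mp hw.symm
  haveI : Module.FaithfullyFlat A B := Module.FaithfullyFlat.of_flat_of_isLocalHom
  refine FaithfulSMul.algebraMap_injective A B ?_
  rw [← hbb, h1, zero_mul, map_zero]

end Groth.Agent.DescFlat
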