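import Groth.Agent.DescFlat.Glue

/-!
# Functions upstairs which are rational functions of the base
-/

set_option autoImplicit false
set_option linter.style.haveILetI false

universe u

open CategoryTheory AlgebraicGeometry Opposite TopologicalSpace

noncomputable section

namespace Groth.Agent.DescFlat

open Groth.Agent.InvExt Groth.Agent.FlatPull Groth.Agent.Ref1

variable {X Y : Scheme.{u}} (f : X ⟶ Y) (C : Chart Y)

lemma isMax_η (z : Y) (h : z ⤳ C.η) : z = C.η :=
  (h.antisymm (C.specializes (h.mem_open C.V.2 C.η_mem))).eq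

/-- A function which on the generic fibre is a rational function of the base comes from the base. -/
theorem exists_stalk [Flat f] [IsLocallyNoetherian Y] (hY : Pi1.IsNormalScheme Y) {W : X.Opens}
    {τ : Γ(X, W)} {c : Y.presheaf.stalk C.η} (hτ : (f.fiberι C.η).app W τ = sc f C.η W c)
    {z : X} (hz : z ∈ W) (hzC : f z ∈ C.V) :
    ∃ (h : C.η ⤳ f z) (d : Y.presheaf.stalk (f z)),
      spR h d = c ∧ f.stalkMap z d = X.presheaf.germ W z hz τ := by
  obtain ⟨_, _⟩ := hY (f z)
  obtain ⟨W', hW', hzW', hle⟩ := exists_isAffineOpen_mem_and_subset (U := W ⊓ f ⁻¹ᵁ C.V) (x := z) ⟨hz, hzC⟩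
  have h1 : W' ≤ W := hle.trans inf_le_left
  have h2 : W' ≤ f ⁻¹ᵁ C.V := hle.trans inf_le_right
  letI := C.fieldK
  let g : Γ(Y, C.V) →+* Y.presheaf.stalk C.η := algebraMap Γ(Y, C.V) _
  obtain ⟨r, s, hs, hrs⟩ := IsFractionRing.div_surjective (A := Γ(Y, C.V)) c
  have hgs : g s ≠ 0 := IsFractionRing.to_map_ne_zero_of_mem_nonZeroDivisors hs
  have hcs : c * g s = g r := by rw [← hrs, div_mul_cancel₀ _ hgs]
  have hres : ∀ v : Γ(Y, C.V), (f.fiberι C.η).app W' (res' f C h2 v) = sc f C.η W' (g v) :=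
    fun v => Φ_res' f C h2 v
  have h3 := congrArg (fres f C.η ((f.fiberι C.η).preimage_mono h1)) hτ
  rw [app_res f C.η h1, fres_sc f C.η h1] at h3
  have h4 : X.presheaf.map (homOfLE h1).op τ * res' f C h2 s = res' f C h2 r := by
    refine sub_eq_zero.mp (eq_zero_of_fibre f C hW' h2 ?_)
    rw [map_sub, map_mul, h3, hres, hres, ← map_mul, hcs, sub_self]
  let σ := spR (X := Y) (C.specializes hzC)
  have hgen : ∀ v : Γ(Y, C.V), σ (Y.presheaf.germ C.V (f z) hzC v) = g v := fun v =>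
    ConcreteCategory.congr_hom
      (TopCat.Presheaf.germ_stalkSpecializes Y.presheaf hzC (C.specializes hzC)) v
  have h5 := congrArg (X.presheaf.germ W' z hzW') h4
  rw [map_mul, X.presheaf.germ_res_apply, germ_res' f C h2 hzW', germ_res' f C h2 hzW'] at h5
  letI := (f.stalkMap z).hom.toAlgebra
  haveI : Module.Flat (Y.presheaf.stalk (f z)) (X.presheaf.stalk z) := Flat.stalkMap f z
  haveI : IsLocalHom (algebraMap (Y.presheaf.stalk (f z)) (X.presheaf.stalk z)) := f.toLRSHom.prop z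
  set s' := Y.presheaf.germ C.V (f z) hzC s
  set r' := Y.presheaf.germ C.V (f z) hzC r
  have hs' : s' ≠ 0 := germ_ne_zero C hzC (nonZeroDivisors.ne_zero hs)
  have hmem : algebraMap _ (X.presheaf.stalk z) r' ∈
      (Ideal.span {s'}).map (algebraMap (Y.presheaf.stalk (f z)) (X.presheaf.stalk z)) := by
    rw [Ideal.map_span, Set.image_singleton, Ideal.mem_span_singleton]
    exact ⟨_, h5.symm.trans (mul_comm _ _)⟩
  obtain ⟨d, hd⟩ := Ideal.mem_span_singleton.mp (mem_of_algebraMap_mem_map hmem)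
  refine ⟨C.specializes hzC, d, ?_, ?_⟩
  · refine mul_right_cancel₀ hgs ?_
    rw [hcs]
    show σ d * g s = g r
    rw [← hgen s, ← hgen r, ← map_mul]
    exact congrArg σ ((mul_comm d s').trans hd.symm)
  · refine algebraMap_mul_cancel hs' ?_
    show f.stalkMap z s' * f.stalkMap z d = f.stalkMap z s' * _
    rw [← map_mul, ← hd]
    exact h5.symm.trans (mul_comm _ _)

/-- The same for a unit. -/
theorem unAt_of_isUnit [Flat f] [IsLocallyNoetherian Y] (hY : Pi1.IsNormalScheme Y) {W : X.Opens}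
    {τ : Γ(X, W)} (hu : IsUnit τ) {c : Y.presheaf.stalk C.η} (hτ : (f.fiberι C.η).app W τ = sc f C.η W c)
    {z : X} (hz : z ∈ W) (hzC : f z ∈ C.V) : UnAt C.η (f z) c := by
  obtain ⟨h, d, hd, hdτ⟩ := exists_stalk f C hY hτ hz hzC
  haveI : IsLocalHom (f.stalkMap z).hom := f.toLRSHom.prop z
  exact ⟨h, d, isUnit_of_map_unit (f.stalkMap z).hom d (hdτ ▸ hu.map _), hd⟩

/-- Nonzero rational functions are invertible on the generic fibre. -/
lemma isUnit_sc {c : Y.presheaf.stalk C.η} (hc : c ≠ 0) (W : X.Opens) : IsUnit (sc f C.η W c) := by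
  letI := C.fieldK
  exact (IsUnit.mk0 c hc).map _

/-- Functions equal on the generic fibre are equal. -/
theorem ext_of_fibre [Flat f] {O : X.Opens} (hO : O ≤ f ⁻¹ᵁ C.V) {a b : Γ(X, O)}
    (h : (f.fiberι C.η).app O a = (f.fiberι C.η).app O b) : a = b := by
  refine TopCat.Presheaf.section_ext X.sheaf O a b fun z hz => ?_
  obtain ⟨W, hW, hzW, hle⟩ := exists_isAffineOpen_mem_and_subset (U := O) (x := z) hz
  have hWO : W ≤ O := hle
  have h1 := congrArg (fres f C.η ((f.fiberι C.η).preimage_mono hWO)) h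
  rw [app_res f C.η hWO, app_res f C.η hWO] at h1
  have h2 := sub_eq_zero.mp (eq_zero_of_fibre f C hW (le_trans hWO hO)
    (b := X.presheaf.map (homOfLE hWO).op a - X.presheaf.map (homOfLE hWO).op b)
    (by rw [map_sub, h1, sub_self]))
  have h3 := congrArg (X.presheaf.germ W z hzW) h2
  rw [X.presheaf.germ_res_apply, X.presheaf.germ_res_apply] at h3
  exact h3

/-- A rational function which is a unit at a point spreads to a unit upstairs. -/
theorem exists_unit_nhd {y : Y} {c : Y.presheaf.stalk C.η} (h : UnAt C.η y c) :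
    ∃ (N : Y.Opens) (w : Γ(Y, N)), y ∈ N ∧ IsUnit w ∧
      (f.fiberι C.η).app (f ⁻¹ᵁ N) (f.app N w) = sc f C.η (f ⁻¹ᵁ N) c := by
  obtain ⟨hs, w₀, hw₀, rfl⟩ := h
  obtain ⟨T, hyT, a, rfl⟩ := Y.presheaf.exists_germ_eq w₀
  have hb : y ∈ Y.basicOpen a := (Y.mem_basicOpen a y hyT).mpr hw₀
  refine ⟨Y.basicOpen a, Y.presheaf.map (homOfLE (Y.basicOpen_le a)).op a, hb,
    Y.toRingedSpace.isUnit_res_basicOpen a, ?_⟩
  have hη : C.η ∈ Y.basicOpen a := hs.mem_open (Y.basicOpen a).2 hb
  have hg : (Y.presheaf.stalkSpecializes hs).hom (Y.presheaf.germ T y hyT a) =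
      Y.presheaf.germ (Y.basicOpen a) C.η hη (Y.presheaf.map (homOfLE (Y.basicOpen_le a)).op a) := by
    rw [Y.presheaf.germ_res_apply]
    exact ConcreteCategory.congr_hom (TopCat.Presheaf.germ_stalkSpecializes Y.presheaf hyT hs) a
  rw [hg]
  have h1 := Φ_germ f C.η (Y.basicOpen a) hη (Y.presheaf.map (homOfLE (Y.basicOpen_le a)).op a)
    (f.fiberι C.η ⁻¹ᵁ (f ⁻¹ᵁ Y.basicOpen a)) le_rfl
  refine Eq.trans ?_ h1.symm
  exact (ConcreteCategory.congr_hom ((f.fiber C.η).presheaf.map_id _) _).symm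

end Groth.Agent.DescFlat
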