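import Groth.Agent.DescFlat.Alg
import Groth.Agent.FlatPull.Point
import Groth.Agent.FlatMor.FibreStalk
import Groth.Agent.CycLib.SpecPt

/-!
# Integral fibres over codimension one points give prime saturated extensions
-/

set_option autoImplicit false
set_option linter.style.haveILetI false

universe u

open CategoryTheory AlgebraicGeometry TopologicalSpace Opposite

noncomputable section

namespace Groth.Agent.DescFlat

open Groth.Agent.Ref1 Groth.Agent.FlatPull

variable {X Y : Scheme.{u}}

lemma isLocalization_spR {z x : X} (h : z ⤳ x) :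
    letI := (spR (X := X) h).toAlgebra
    IsLocalization.AtPrime (X.presheaf.stalk z) (primeAt h) := by
  have hk : RingHom.ker (Cyc.specMap x z h) = primeAt h := CycLib.ker_specMap_eq_comap x z h
  letI := (spR (X := X) h).toAlgebra
  have h1 := CycLib.isLocalization_stalkSpecializes h
  have key : ∀ (P : Ideal (X.presheaf.stalk x)) (hP : P.IsPrime), P = primeAt h →
      IsLocalization.AtPrime (X.presheaf.stalk z) P (hp := hP) →
      IsLocalization.AtPrime (X.presheaf.stalk z) (primeAt h) := by
    rintro _ _ rfl h2; exact h2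
  exact key _ (RingHom.ker_isPrime _) hk h1

lemma ringKrullDim_eq_height {z x : X} (h : z ⤳ x) :
    ringKrullDim (X.presheaf.stalk z) = (primeAt h).height := by
  letI := (spR (X := X) h).toAlgebra
  haveI := isLocalization_spR h
  exact IsLocalization.AtPrime.ringKrullDim_eq_height (primeAt h) _

/-- An element whose image is in an extended ideal is so up to an element invertible there. -/
lemma exists_mul_mem_map {z x : X} (h : z ⤳ x) (I : Ideal (X.presheaf.stalk x)) {b : X.presheaf.stalk x}
    (hb : spR h b ∈ I.map (spR h)) : ∃ t ∉ primeAt h, t * b ∈ I := by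
  letI := (spR (X := X) h).toAlgebra
  haveI := isLocalization_spR h
  obtain ⟨⟨i, t⟩, he⟩ := (IsLocalization.mem_map_algebraMap_iff (primeAt h).primeCompl (X.presheaf.stalk z)).mp hb
  rw [show spR h b = algebraMap (X.presheaf.stalk x) (X.presheaf.stalk z) b from rfl, ← map_mul] at he
  obtain ⟨u, hu⟩ := IsLocalization.exists_of_eq (M := (primeAt h).primeCompl) he
  refine ⟨u.1 * t.1, fun hm => ((inferInstance : (primeAt h).IsPrime).mem_or_mem hm).elim u.2 t.2, ?_⟩
  rw [mul_assoc, mul_comm t.1, hu]
  exact Ideal.mul_mem_left _ _ i.2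

variable (f : X ⟶ Y)

/-- Prime saturations from integral fibres over codimension one points. -/
theorem fibPrime [Flat f] (hfib : ∀ y : Y, ringKrullDim (Y.presheaf.stalk y) = 1 → IsIntegral (f.fiber y))
    (x : X) (p : Ideal (Y.presheaf.stalk (f x))) (hp : p.IsPrime) (hh : p.height = 1) :
    letI := (f.stalkMap x).hom.toAlgebra
    FibPrime p (X.presheaf.stalk x) := by
  letI := (f.stalkMap x).hom.toAlgebra
  obtain ⟨y', hy', rfl⟩ := exists_point (f x) p
  have hdim : ringKrullDim (Y.presheaf.stalk y') = 1 := by
    rw [ringKrullDim_eq_height hy', hh]; rfl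
  haveI := hfib y' hdim
  set p := primeAt hy' with hpdef
  -- the generic point of the fibre
  let g : X := f.fiberι y' (genericPoint (f.fiber y'))
  have hgy : f g = y' := by
    have : g ∈ f ⁻¹' {y'} := f.range_fiberι y' ▸ ⟨_, rfl⟩
    exact this
  have hgz : ∀ z, f z = y' → g ⤳ z := fun z hz => by
    obtain ⟨w, rfl⟩ : z ∈ Set.range (f.fiberι y') := by rw [f.range_fiberι y']; exact hz
    exact ((genericPoint_spec _).specializes trivial).map (f.fiberι y').continuous
  obtain ⟨z₀, hz₀, hz₀y⟩ := exists_lift f x hy'
  have hgx : g ⤳ x := (hgz z₀ hz₀y).trans hz₀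
  have hcomap : (primeAt hgx).comap (f.stalkMap x).hom = p := by
    rw [primeAt_map f hgx]
    have key : ∀ (w : Y) (hw : w ⤳ f x), w = y' → primeAt hw = p := by rintro _ hw rfl; rfl
    exact key _ _ hgy
  have hle : p.map (f.stalkMap x).hom ≤ primeAt hgx := Ideal.map_le_iff_le_comap.mpr hcomap.ge
  have hmem : ∀ b, b ∈ primeAt hgx → ∃ s ∉ p, f.stalkMap x s * b ∈ p.map (f.stalkMap x).hom := by
    intro b hb
    let D : Ideal (X.presheaf.stalk x) :=
      { carrier := {t | t * b ∈ p.map (f.stalkMap x).hom}
        add_mem' := fun {s t} hs ht => by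
          rw [Set.mem_setOf_eq, add_mul]; exact Ideal.add_mem _ hs ht
        zero_mem' := by simp
        smul_mem' := fun r t ht => by
          rw [Set.mem_setOf_eq, smul_eq_mul, mul_assoc]; exact Ideal.mul_mem_left _ _ ht }
    let S : Submonoid (X.presheaf.stalk x) := p.primeCompl.map (f.stalkMap x).hom
    by_contra hcon
    have hd : Disjoint (D : Set (X.presheaf.stalk x)) (S : Set (X.presheaf.stalk x)) := by
      refine Set.disjoint_right.mpr ?_
      rintro _ ⟨s, hs, rfl⟩ hsD
      exact hcon ⟨s, hs, hsD⟩
    obtain ⟨P', hP', hDP, hPS⟩ := Ideal.exists_le_prime_disjoint D S hd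
    obtain ⟨z, hz, rfl⟩ := exists_point x P'
    have hcz : (primeAt hz).comap (f.stalkMap x).hom = p := by
      refine le_antisymm (fun s hs => ?_) fun s hs => ?_
      · by_contra hsp
        exact Set.disjoint_left.mp hPS hs ⟨s, hsp, rfl⟩
      · exact hDP (show f.stalkMap x s * b ∈ _ from Ideal.mul_mem_right _ _ (Ideal.mem_map_of_mem _ hs))
    have hzy : f z = y' := by
      refine eq_of_primeAt_eq (hz.map f.continuous) hy' ?_
      rw [← primeAt_map f hz, hcz]
    have hgz' : g ⤳ z := hgz z hzy
    -- the extended maximal ideal at `z` is prime, and its point is below `g`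
    set I := (IsLocalRing.maximalIdeal (Y.presheaf.stalk (f z))).map (f.stalkMap z).hom
    haveI : IsIntegral (f.fiber (f z)) := hzy.symm ▸ ‹IsIntegral (f.fiber y')›
    obtain ⟨ψ, -, hker⟩ := FlatMor.FibreStalk.exists_fibre_stalk f z
    haveI : I.IsPrime := by
      have hp := RingHom.ker_isPrime ψ
      rwa [hker] at hp
    obtain ⟨v, hv, hvI⟩ := exists_point z I
    have hvy : f v = y' := by
      refine Eq.trans ?_ hzy
      refine eq_of_primeAt_eq (hv.map f.continuous) (specializes_refl _) ?_
      rw [← primeAt_map f hv, hvI]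
      refine ((IsLocalRing.maximalIdeal.isMaximal _).eq_of_le (Ideal.IsPrime.comap (f.stalkMap z).hom).ne_top
        Ideal.le_comap_map).symm.trans ?_
      ext a
      rw [mem_primeAt, IsLocalRing.mem_maximalIdeal]
      refine not_congr ⟨fun hu => hu.map _, fun hu => ?_⟩
      obtain ⟨U, hU, r, rfl⟩ := Y.presheaf.exists_germ_eq (x := f z) a
      rwa [spR_germ] at hu
    have hbI : spR hz b ∈ I := by
      rw [← hvI, mem_primeAt]
      intro hu
      have h1 := hu.map (spR (hgz v hvy))
      rw [spR_spR, spR_spR] at h1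
      exact (mem_primeAt hgx b).mp hb h1
    have hI : I = (p.map (f.stalkMap x).hom).map (spR hz) := by
      have hmax : IsLocalRing.maximalIdeal (Y.presheaf.stalk (f z)) = p.map (spR (hz.map f.continuous)) := by
        letI := (spR (X := Y) (hz.map f.continuous)).toAlgebra
        haveI := isLocalization_spR (hz.map f.continuous)
        rw [← IsLocalization.AtPrime.map_eq_maximalIdeal (primeAt (hz.map f.continuous)) (Y.presheaf.stalk (f z))]
        rw [show primeAt (hz.map f.continuous) = p by rw [← primeAt_map f hz, hcz]]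
        rfl
      show Ideal.map _ _ = _
      rw [hmax, Ideal.map_map, Ideal.map_map]
      congr 1
      exact RingHom.ext fun a => (stalkMap_spR f hz a).symm
    rw [hI] at hbI
    obtain ⟨t, ht, htb⟩ := exists_mul_mem_map hz _ hbI
    exact ht (hDP htb)
  intro b b' ⟨s, hs, hsbb⟩
  have h1 : f.stalkMap x s * (b * b') ∈ primeAt hgx := hle hsbb
  have hsP : f.stalkMap x s ∉ primeAt hgx := fun h => hs (hcomap ▸ (Ideal.mem_comap.mpr h))
  haveI : (primeAt hgx).IsPrime := Ideal.IsPrime.comap _
  rcases Ideal.IsPrime.mem_or_mem ‹(primeAt hgx).IsPrime› h1 with h | h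
  · exact absurd h hsP
  rcases Ideal.IsPrime.mem_or_mem ‹(primeAt hgx).IsPrime› h with h | h
  · exact Or.inl (hmem b h)
  · exact Or.inr (hmem b' h)

end Groth.Agent.DescFlat
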