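import Groth.Agent.InvExt.Chart
import Groth.Agent.DescFlat.Alg
import Mathlib.AlgebraicGeometry.Fiber
import Mathlib.AlgebraicGeometry.Morphisms.Affine
import Mathlib.AlgebraicGeometry.Morphisms.Flat
import Mathlib.AlgebraicGeometry.Morphisms.Preimmersion

/-!
# The fibre over the generic point of a chart

Functions on the part of the generic fibre over an affine open are the localisation of the functions
on the open at the nonzero functions of the base.
-/

set_option autoImplicit false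
set_option linter.style.haveILetI false

universe u

open CategoryTheory CategoryTheory.Limits AlgebraicGeometry Opposite TopologicalSpace

noncomputable section

namespace Groth.Agent.DescFlat

open Groth.Agent.InvExt

variable {X Y : Scheme.{u}} (f : X ⟶ Y)

/-- The scalars of the base local ring in the functions on a fibre. -/
def ΦH (η : Y) : Y.presheaf.stalk η ⟶ Γ(f.fiber η, ⊤) :=
  Y.residue η ≫ (Scheme.ΓSpecIso (Y.residueField η)).inv ≫ (f.fiberToSpecResidueField η).appTop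

/-- The scalars of the base local ring in the functions on a fibre, as a ring map. -/
abbrev Φ (η : Y) : Y.presheaf.stalk η →+* Γ(f.fiber η, ⊤) := (ΦH f η).hom

lemma Φ_germ (η : Y) (N : Y.Opens) (hη : η ∈ N) (a : Γ(Y, N)) (T : (f.fiber η).Opens)
    (hT : T ≤ f.fiberι η ⁻¹ᵁ (f ⁻¹ᵁ N)) :
    ((f.fiber η).presheaf.map (homOfLE (le_top : T ≤ ⊤)).op).hom (Φ f η (Y.presheaf.germ N η hη a)) =
      ((f.fiber η).presheaf.map (homOfLE hT).op).hom ((f.fiberι η).app _ (f.app N a)) := by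
  let h := f.fiberToSpecResidueField η ≫ Spec.map (Y.residue η)
  have hsq : f.fiberι η ≫ f = h ≫ Y.fromSpecStalk η := by
    rw [Category.assoc]
    exact pullback.condition
  have hΦ : ΦH f η = (Scheme.ΓSpecIso _).inv ≫ h.appTop := by
    rw [Scheme.Hom.comp_appTop, ← Category.assoc, ← Scheme.ΓSpecIso_inv_naturality, Category.assoc, ΦH]
  have hmor : Y.presheaf.germ N η hη ≫ ΦH f η ≫
      (f.fiber η).presheaf.map (homOfLE (le_top : f.fiberι η ⁻¹ᵁ (f ⁻¹ᵁ N) ≤ ⊤)).op =
      f.app N ≫ (f.fiberι η).app _ := by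
    rw [← Scheme.Hom.comp_app, Scheme.Hom.congr_app hsq N, Scheme.Hom.comp_app,
      Scheme.fromSpecStalk_app hη, hΦ]
    simp only [Category.assoc]
    let T₁ := (Y.presheaf.germ N η hη ≫ (Scheme.ΓSpecIso (Y.presheaf.stalk η)).inv ≫ h.appTop :
      Γ(Y, N) ⟶ Γ(f.fiber η, ⊤))
    have e1 : Y.presheaf.germ N η hη ≫ (Scheme.ΓSpecIso (Y.presheaf.stalk η)).inv ≫
        (Spec (Y.presheaf.stalk η)).presheaf.map (homOfLE le_top).op ≫ h.app (Y.fromSpecStalk η ⁻¹ᵁ N) =
        T₁ ≫ (f.fiber η).presheaf.map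
          ((Opens.map h.base).map (homOfLE (le_top : Y.fromSpecStalk η ⁻¹ᵁ N ≤ ⊤))).op := by
      rw [h.naturality (homOfLE (le_top : Y.fromSpecStalk η ⁻¹ᵁ N ≤ ⊤)).op]
      simp only [T₁, Category.assoc]
      rfl
    refine Eq.trans ?_ (congrArg (· ≫ _) e1).symm
    refine Eq.trans (b := T₁ ≫ (f.fiber η).presheaf.map (homOfLE le_top).op) ?_ ?_
    · simp only [T₁, Category.assoc]
    · refine Eq.trans ?_ (Category.assoc _ _ _).symm
      refine congrArg (T₁ ≫ ·) ?_
      exact Eq.trans rfl ((f.fiber η).presheaf.map_comp _ _)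
  have h2 : (f.fiber η).presheaf.map (homOfLE (le_top : f.fiberι η ⁻¹ᵁ (f ⁻¹ᵁ N) ≤ ⊤)).op
      (Φ f η (Y.presheaf.germ N η hη a)) = (f.fiberι η).app _ (f.app N a) :=
    ConcreteCategory.congr_hom hmor a
  have h5 := congrArg ((f.fiber η).presheaf.map (homOfLE hT).op).hom h2
  rw [← h5]
  show _ = ((f.fiber η).presheaf.map (homOfLE (le_top : f.fiberι η ⁻¹ᵁ (f ⁻¹ᵁ N) ≤ ⊤)).op ≫
    (f.fiber η).presheaf.map (homOfLE hT).op) _
  rw [← Functor.map_comp]
  rfl

lemma isAffineHom_fromSpecResidueField (y : Y) : IsAffineHom (Y.fromSpecResidueField y) := by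
  refine ⟨fun U _ => ?_⟩
  by_cases hy : y ∈ U
  · rw [show Y.fromSpecResidueField y ⁻¹ᵁ U = ⊤ from eq_top_iff.mpr fun p _ => by
      show Y.fromSpecResidueField y p ∈ U
      rw [Y.fromSpecResidueField_apply y p]; exact hy]
    exact isAffineOpen_top _
  · rw [show Y.fromSpecResidueField y ⁻¹ᵁ U = ⊥ from eq_bot_iff.mpr fun p hp => by
      refine hy ?_
      have : Y.fromSpecResidueField y p ∈ U := hp
      rwa [Y.fromSpecResidueField_apply y p] at this]
    exact isAffineOpen_bot _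

instance (η : Y) : IsAffineHom (f.fiberι η) :=
  haveI := isAffineHom_fromSpecResidueField η
  MorphismProperty.of_isPullback (P := @IsAffineHom)
    (IsPullback.of_hasPullback f (Y.fromSpecResidueField η)).flip this

instance (η : Y) : Mono (f.fiberι η) := inferInstance

variable (C : Chart Y) {W : X.Opens}

/-- The base functions on an open. -/
abbrev res' (hle : W ≤ f ⁻¹ᵁ C.V) : Γ(Y, C.V) →+* Γ(X, W) := (f.appLE C.V W hle).hom

lemma isUnit_Φ_germ {a : Γ(Y, C.V)} (ha : a ≠ 0) :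
    IsUnit (Φ f C.η (Y.presheaf.germ C.V C.η C.η_mem a)) := by
  letI := C.fieldK
  refine (IsUnit.mk0 _ fun h => ha ?_).map _
  exact IsFractionRing.injective Γ(Y, C.V) (Y.presheaf.stalk C.η) (h.trans (map_zero (algebraMap Γ(Y, C.V) _)).symm)

lemma Φ_res' (hle : W ≤ f ⁻¹ᵁ C.V) (a : Γ(Y, C.V)) :
    (f.fiberι C.η).app W (res' f C hle a) =
      ((f.fiber C.η).presheaf.map (homOfLE (le_top : f.fiberι C.η ⁻¹ᵁ W ≤ ⊤)).op).hom
        (Φ f C.η (Y.presheaf.germ C.V C.η C.η_mem a)) := by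
  rw [Φ_germ f C.η C.V C.η_mem a _ ((f.fiberι C.η).preimage_mono hle)]
  show (f.fiberι C.η).app W (X.presheaf.map (homOfLE hle).op (f.app C.V a)) = _
  exact ConcreteCategory.congr_hom ((f.fiberι C.η).naturality (homOfLE hle).op) (f.app C.V a)

/-- The square defining a map into the fibre. -/
theorem exists_sq (hW : IsAffineOpen W) (hle : W ≤ f ⁻¹ᵁ C.V) (R : CommRingCat.{u}) (g : Γ(X, W) ⟶ R)
    (hg : ∀ a : nonZeroDivisors Γ(Y, C.V), IsUnit (g.hom.comp (res' f C hle) a)) :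
    ∃ s : Spec R ⟶ Spec (Y.residueField C.η),
      (Spec.map g ≫ hW.fromSpec) ≫ f = s ≫ Y.fromSpecResidueField C.η := by
  haveI hloc : IsLocalization (nonZeroDivisors Γ(Y, C.V)) (Y.presheaf.stalk C.η) := C.fracK
  let φ0 : Y.presheaf.stalk C.η →+* R :=
    @IsLocalization.lift Γ(Y, C.V) _ (nonZeroDivisors Γ(Y, C.V)) (Y.presheaf.stalk C.η) _ C.algK R _
      hloc (g.hom.comp (res' f C hle)) hg
  let φ : Y.presheaf.stalk C.η ⟶ R := CommRingCat.ofHom φ0
  have hφ : Y.presheaf.germ C.V C.η C.η_mem ≫ φ = f.appLE C.V W hle ≫ g := by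
    ext a
    have h1 : φ0 (algebraMap Γ(Y, C.V) (Y.presheaf.stalk C.η) a) = (g.hom.comp (res' f C hle)) a :=
      @IsLocalization.lift_eq Γ(Y, C.V) _ (nonZeroDivisors Γ(Y, C.V)) (Y.presheaf.stalk C.η) _ C.algK R _
        hloc (g.hom.comp (res' f C hle)) hg a
    rw [CommRingCat.comp_apply, CommRingCat.comp_apply]
    exact h1
  haveI : IsIso (Y.residue C.η) := by
    refine (ConcreteCategory.isIso_iff_bijective _).mpr ⟨?_, Y.residue_surjective C.η⟩
    letI := C.fieldK
    exact RingHom.injective (Y.residue C.η).hom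
  refine ⟨Spec.map (inv (Y.residue C.η) ≫ φ), ?_⟩
  have hs : Spec.map (inv (Y.residue C.η) ≫ φ) ≫ Y.fromSpecResidueField C.η =
      Spec.map φ ≫ Y.fromSpecStalk C.η := by
    show _ ≫ Spec.map (Y.residue C.η) ≫ _ = _
    rw [← Spec.map_comp_assoc, IsIso.hom_inv_id_assoc]
  rw [hs, ← C.affine.fromSpecStalk_eq_fromSpecStalk C.η_mem, IsAffineOpen.fromSpecStalk,
    ← Spec.map_comp_assoc, hφ, Spec.map_comp, Category.assoc, Category.assoc,
    C.affine.SpecMap_appLE_fromSpec f hW]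

/-- The map from an abstract localisation is bijective. -/
theorem bijective_lift (hW : IsAffineOpen W) (hle : W ≤ f ⁻¹ᵁ C.V) (L : Type u) [CommRing L]
    [Algebra Γ(X, W) L] [IsLocalization ((nonZeroDivisors Γ(Y, C.V)).map (res' f C hle)) L] :
    ∃ hM : ∀ y : (nonZeroDivisors Γ(Y, C.V)).map (res' f C hle), IsUnit (((f.fiberι C.η).app W).hom y),
      Function.Bijective (IsLocalization.lift (S := L) hM) := by
  let M := (nonZeroDivisors Γ(Y, C.V)).map (res' f C hle)
  let ι := f.fiberι C.η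
  let E := ι ⁻¹ᵁ W
  have hE : IsAffineOpen E := hW.preimage ι
  let φ := (ι.app W).hom
  have hφM : ∀ y : M, IsUnit (φ y) := by
    rintro ⟨_, a, ha, rfl⟩
    show IsUnit (ι.app W (res' f C hle a))
    rw [Φ_res']
    exact (isUnit_Φ_germ f C (nonZeroDivisors.ne_zero ha)).map _
  let ψ : L →+* Γ(f.fiber C.η, E) := IsLocalization.lift hφM
  -- the inverse, as a morphism into the fibre
  let ρ : Γ(Y, C.V) →+* L := (algebraMap Γ(X, W) L).comp (res' f C hle)
  have hρ : ∀ a : nonZeroDivisors Γ(Y, C.V), IsUnit (ρ a) := fun a =>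
    IsLocalization.map_units L (⟨res' f C hle a, a, a.2, rfl⟩ : M)
  let l : Spec (CommRingCat.of L) ⟶ X := Spec.map (CommRingCat.ofHom (algebraMap Γ(X, W) L)) ≫ hW.fromSpec
  obtain ⟨s, hsq⟩ := exists_sq f C hW hle (CommRingCat.of L)
    (CommRingCat.ofHom (algebraMap Γ(X, W) L)) hρ
  let r : Spec (CommRingCat.of L) ⟶ f.fiber C.η := pullback.lift l s hsq
  have hrl : r ≫ ι = l := pullback.lift_fst _ _ _
  have hrE : ∀ p, r p ∈ E := fun p => by
    show ι (r p) ∈ W
    rw [← Scheme.Hom.comp_apply, hrl]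
    exact hW.range_fromSpec.le ⟨_, rfl⟩
  let r' : Spec (CommRingCat.of L) ⟶ (E : Scheme.{u}) :=
    IsOpenImmersion.lift E.ι r (by rw [E.range_ι]; rintro _ ⟨p, rfl⟩; exact hrE p)
  have hr' : r' ≫ E.ι = r := IsOpenImmersion.lift_fac _ _ _
  haveI : IsAffine (E : Scheme.{u}) := hE
  -- the two composites
  let j : (E : Scheme.{u}) ⟶ Spec (CommRingCat.of L) := hE.isoSpec.hom ≫ Spec.map (CommRingCat.ofHom ψ)
  have hψ : CommRingCat.ofHom (algebraMap Γ(X, W) L) ≫ CommRingCat.ofHom ψ = ι.app W := by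
    ext a
    exact IsLocalization.lift_eq hφM a
  have hjl : j ≫ l = E.ι ≫ ι := by
    have h1 : Spec.map (ι.app W) ≫ hW.fromSpec = hE.fromSpec ≫ ι := by
      rw [← hW.SpecMap_appLE_fromSpec ι hE le_rfl, Scheme.Hom.appLE_eq_app]
    simp only [j, l, Category.assoc, ← Spec.map_comp_assoc, hψ, h1]
    rw [← Category.assoc, IsAffineOpen.fromSpec, Iso.hom_inv_id_assoc]
  have hjr : j ≫ r' = 𝟙 _ := by
    haveI : Mono (E.ι ≫ ι) := mono_comp _ _
    refine (cancel_mono (E.ι ≫ ι)).mp ?_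
    rw [Category.id_comp, Category.assoc, ← Category.assoc r', hr', hrl, hjl]
  have hrj : r' ≫ j = 𝟙 _ := by
    have hl : Mono l := by
      haveI : IsPreimmersion (Spec.map (CommRingCat.ofHom (algebraMap Γ(X, W) L))) :=
        IsPreimmersion.of_isLocalization ((nonZeroDivisors Γ(Y, C.V)).map (res' f C hle))
      exact mono_comp _ _
    refine (cancel_mono l).mp ?_
    rw [Category.id_comp, Category.assoc, hjl, ← Category.assoc, hr', hrl]
  haveI : IsIso (Spec.map (CommRingCat.ofHom ψ)) := by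
    haveI : IsIso j := ⟨r', hjr, hrj⟩
    exact IsIso.of_isIso_comp_left hE.isoSpec.hom _
  haveI : IsIso (CommRingCat.ofHom ψ) := by
    haveI : IsIso (Scheme.Spec.map (CommRingCat.ofHom ψ).op) := ‹IsIso (Spec.map (CommRingCat.ofHom ψ))›
    haveI := isIso_of_reflects_iso (CommRingCat.ofHom ψ).op Scheme.Spec
    exact isIso_of_op _
  exact ⟨hφM, (ConcreteCategory.isIso_iff_bijective (CommRingCat.ofHom ψ)).mp inferInstance⟩

/-- Functions on the generic fibre over an affine open. -/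
theorem isLocalization_fibre (hW : IsAffineOpen W) (hle : W ≤ f ⁻¹ᵁ C.V) :
    letI := ((f.fiberι C.η).app W).hom.toAlgebra
    IsLocalization ((nonZeroDivisors Γ(Y, C.V)).map (res' f C hle)) Γ(f.fiber C.η, f.fiberι C.η ⁻¹ᵁ W) := by
  letI := ((f.fiberι C.η).app W).hom.toAlgebra
  obtain ⟨hM, hbij⟩ := bijective_lift f C hW hle (Localization ((nonZeroDivisors Γ(Y, C.V)).map (res' f C hle)))
  exact IsLocalization.isLocalization_of_algEquiv _ (AlgEquiv.ofBijective
    { IsLocalization.lift hM with commutes' := fun a => IsLocalization.lift_eq hM a } hbij)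

/-- Fractions and kernels on the generic fibre. -/
theorem exists_frac_fibre (hW : IsAffineOpen W) (hle : W ≤ f ⁻¹ᵁ C.V) (α : Γ(f.fiber C.η, f.fiberι C.η ⁻¹ᵁ W)) :
    ∃ (b : Γ(X, W)) (a : Γ(Y, C.V)), a ≠ 0 ∧
      α * (f.fiberι C.η).app W (res' f C hle a) = (f.fiberι C.η).app W b := by
  letI := ((f.fiberι C.η).app W).hom.toAlgebra
  haveI := isLocalization_fibre f C hW hle
  obtain ⟨⟨b, m, a, ha, rfl⟩, h⟩ := IsLocalization.surj ((nonZeroDivisors Γ(Y, C.V)).map (res' f C hle)) α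
  exact ⟨b, a, nonZeroDivisors.ne_zero ha, h⟩

theorem eq_zero_of_fibre [Flat f] (hW : IsAffineOpen W) (hle : W ≤ f ⁻¹ᵁ C.V) {b : Γ(X, W)}
    (hb : (f.fiberι C.η).app W b = 0) : b = 0 := by
  letI := ((f.fiberι C.η).app W).hom.toAlgebra
  haveI := isLocalization_fibre f C hW hle
  obtain ⟨⟨_, a, ha, rfl⟩, h⟩ := (IsLocalization.map_eq_zero_iff
    ((nonZeroDivisors Γ(Y, C.V)).map (res' f C hle)) Γ(f.fiber C.η, f.fiberι C.η ⁻¹ᵁ W) b).mp hb
  letI := (res' f C hle).toAlgebra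
  haveI : Module.Flat Γ(Y, C.V) Γ(X, W) :=
    HasRingHomProperty.appLE @Flat f ‹_› ⟨C.V, C.affine⟩ ⟨W, hW⟩ hle
  exact isSMulRegular_algebraMap (nonZeroDivisors.ne_zero ha) h

end Groth.Agent.DescFlat
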