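import Groth.Agent.DescFlat.Spread
import Groth.Agent.LineCoc.Basic

/-!
# The cocycle on the base of local data upstairs
-/

set_option autoImplicit false
set_option linter.style.haveILetI false

universe u

open CategoryTheory AlgebraicGeometry Opposite TopologicalSpace

noncomputable section

namespace Groth.Agent.DescFlat

open Groth.Agent.InvExt Groth.Agent.FlatPull Groth.Agent.Ref1

variable {X Y : Scheme.{u}} {f : X ⟶ Y}

lemma spR_refl' (z : Y) (h : z ⤳ z) (a : Y.presheaf.stalk z) : spR h a = a := by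
  obtain ⟨U, hU, r, rfl⟩ := Y.presheaf.exists_germ_eq (x := z) a
  rw [spR_germ]

lemma germ_rres' {U U' : Y.Opens} (h : U' ≤ U) (z : Y) (hz : z ∈ U') (a : Γ(Y, U)) :
    Y.presheaf.germ U' z hz (QCoh.rres h a) = Y.presheaf.germ U z (h hz) a :=
  Y.presheaf.germ_res_apply (homOfLE h) z hz a

/-- Glued data on the base. -/
structure Glued (D : Data f) where
  /-- the indices -/
  ι : Type u
  /-- the charts -/
  C : ι → Chart Y
  /-- the opens -/
  V : ι → Y.Opens
  le : ∀ i, V i ≤ (C i).V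
  cover : ⊤ ≤ iSup V
  /-- the rational functions -/
  c : ∀ i, Y.presheaf.stalk (C i).η
  ne_zero : ∀ i, c i ≠ 0
  good : ∀ i (x : X) (W : X.Opens) (c' : Y.presheaf.stalk (C i).η), x ∈ W → f x ∈ V i → c' ≠ 0 →
    D.P (C i).η W c' → ∃ u, UnAt (C i).η (f x) u ∧ c' = u * c i
  /-- the transition functions -/
  a : ∀ i j, Γ(Y, V i ⊓ V j)
  isUnit : ∀ i j, IsUnit (a i j)
  trans : ∀ i j (hi : (C i).η ∈ V i ⊓ V j) (h : (C i).η ⤳ (C j).η),
    Y.presheaf.germ (V i ⊓ V j) (C i).η hi (a i j) * c i = spR h (c j)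

/-- The cocycle. -/
def Glued.cocycle {D : Data f} (G : Glued D) : LineCoc.Cocycle Y where
  ι := G.ι
  W := G.V
  a := G.a
  cover := G.cover
  self i := by
    letI := (G.C i).fieldK
    by_cases h : (G.C i).η ∈ G.V i ⊓ G.V i
    · refine (G.C i).ext_of_germ (inf_le_left.trans (G.le i)) h ?_
      have h1 := G.trans i i h (specializes_refl _)
      rw [spR_refl'] at h1
      rw [map_one]
      exact mul_right_cancel₀ (G.ne_zero i) (h1.trans (one_mul _).symm)
    · exact (G.C i).ext_of_empty (inf_le_left.trans (G.le i)) h _ _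
  coc i j k W h₁ h₂ h₃ := by
    letI := (G.C i).fieldK
    have hle : W ≤ (G.C i).V := (h₁.trans inf_le_left).trans (G.le i)
    by_cases h : (G.C i).η ∈ W
    · refine (G.C i).ext_of_germ hle h ?_
      have hj : (G.C i).η ∈ (G.C j).V := G.le j (h₁ h).2
      have hk : (G.C i).η ∈ (G.C k).V := G.le k (h₂ h).2
      have hij : (G.C i).η = (G.C j).η := (G.C i).eq_η_of ((G.le i) (h₁ h).1) hj
      have hjk : (G.C j).η = (G.C k).η := hij.symm.trans ((G.C i).eq_η_of ((G.le i) (h₁ h).1) hk)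
      have e1 := G.trans i j (h₁ h) (specializes_of_eq hij)
      have e2 := G.trans j k (hij ▸ h₂ h) (specializes_of_eq hjk)
      have e3 := G.trans i k (h₃ h) (specializes_of_eq (hij.trans hjk))
      have e4 := congrArg (spR (X := Y) (specializes_of_eq hij)) e2
      rw [map_mul, ← e1, spR_germ, spR_spR] at e4
      rw [map_mul, germ_rres', germ_rres', germ_rres']
      refine mul_right_cancel₀ (G.ne_zero i) ?_
      rw [e3, ← e4]
      ring
    · exact (G.C i).ext_of_empty hle h _ _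

variable [Flat f] [Surjective f] [IsLocallyNoetherian Y]

/-- Local data upstairs glue on the base. -/
theorem exists_glued (D : Data f) (hY : Pi1.IsNormalScheme Y)
    (hfib : ∀ y : Y, ringKrullDim (Y.presheaf.stalk y) = 1 → IsIntegral (f.fiber y))
    (hf : QuasiCompact f ∨ IsOpenMap f) : Nonempty (Glued D) := by
  classical
  choose C V c hyV hVC hc0 hgood using D.exists_nhd hY hfib hf
  have htr : ∀ i j : Y, ∃ a : Γ(Y, V i ⊓ V j), IsUnit a ∧ ∀ (hi : (C i).η ∈ V i ⊓ V j) (h : (C i).η ⤳ (C j).η),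
      Y.presheaf.germ (V i ⊓ V j) (C i).η hi a * c i = spR h (c j) := by
    intro i j
    by_cases hne : (C i).η ∈ V i ⊓ V j
    swap
    · exact ⟨1, isUnit_one, fun hi => absurd hi hne⟩
    have hηeq : (C i).η = (C j).η := (C i).eq_η_of ((C i).η_mem) (hVC j hne.2)
    have key : ∀ (η : Y) (d : Y.presheaf.stalk η), d ≠ 0 →
        (∀ (x : X) (W : X.Opens) (c' : Y.presheaf.stalk η), x ∈ W → f x ∈ V j → c' ≠ 0 → D.P η W c' →
          ∃ u, UnAt η (f x) u ∧ c' = u * d) →
        (C i).η = η → ∃ a : Γ(Y, V i ⊓ V j), IsUnit a ∧ ∀ (hi : (C i).η ∈ V i ⊓ V j) (h : (C i).η ⤳ η),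
          Y.presheaf.germ (V i ⊓ V j) (C i).η hi a * c i = spR h d := by
      rintro η d hd hgd rfl
      letI := (C i).fieldK
      obtain ⟨a, ha, hac⟩ := (C i).exists_unit (inf_le_left.trans (hVC i)) hne (d / c i) fun z hz => by
        obtain ⟨x, rfl⟩ := f.surjective z
        obtain ⟨W, cx, hxW, hcx, hPx⟩ := D.exists_data (C i) x (hVC i hz.1)
        obtain ⟨u, hu, hu'⟩ := hgood i x W cx hxW hz.1 hcx hPx
        obtain ⟨w, hw, hw'⟩ := hgd x W cx hxW hz.2 hcx hPx
        have hzC := hVC i hz.1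
        have h1 : Un ((C i).pr _ hzC).asIdeal (u / w) :=
          (((C i).un_iff hzC _).mpr hu).div (((C i).un_iff hzC _).mpr hw)
        rw [← (C i).un_iff hzC]
        have hw0 : w ≠ 0 := fun h0 => hcx (by rw [hw', h0, zero_mul])
        have h2 : d / c i = u / w := by
          rw [div_eq_div_iff (hc0 i) hw0, ← hu', hw', mul_comm]
        rwa [h2]
      refine ⟨a, ha, fun hi h => ?_⟩
      rw [spR_refl', hac, div_mul_cancel₀ _ (hc0 i)]
    exact key (C j).η (c j) (hc0 j) (hgood j) hηeq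
  choose a ha hat using htr
  exact ⟨⟨Y, C, V, hVC, fun y _ => Opens.mem_iSup.mpr ⟨y, hyV y⟩, c, hc0, hgood, a, ha, hat⟩⟩

end Groth.Agent.DescFlat
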