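import Groth.Agent.DescFlat.Common
import Groth.Agent.IdealSh.EffCartier
import Groth.Agent.IdealSh.Regular
import Groth.Agent.Props.SubIdeal

/-!
# Descent of effective Cartier divisors trivial on the generic fibres
-/

set_option autoImplicit false
set_option linter.style.haveILetI false

universe u

open CategoryTheory AlgebraicGeometry Opposite TopologicalSpace

noncomputable section

namespace Groth.Agent.DescFlat

open Groth.Agent.InvExt Groth.Agent.Ref1 Groth.Agent.IdealSh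

variable {X Y : Scheme.{u}}

/-- A rational function regular at every point of an open is a function there. -/
lemma exists_regular (C : Chart Y) {O : Y.Opens} (hO : O ≤ C.V) (hη : C.η ∈ O) (c : Y.presheaf.stalk C.η)
    (hc : ∀ z ∈ O, ∃ (h : C.η ⤳ z) (w : Y.presheaf.stalk z), spR h w = c) :
    ∃ a : Γ(Y, O), Y.presheaf.germ O C.η hη a = c := by
  have hloc : ∀ z : O, ∃ (T : Y.Opens) (_ : T ≤ O) (_ : z.1 ∈ T) (hηT : C.η ∈ T) (a : Γ(Y, T)),
      Y.presheaf.germ T C.η hηT a = c := by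
    rintro ⟨z, hz⟩
    obtain ⟨hs, w, hwc⟩ := hc z hz
    obtain ⟨T, hzT, a, rfl⟩ := Y.presheaf.exists_germ_eq w
    refine ⟨T ⊓ O, inf_le_right, ⟨hzT, hz⟩, hs.mem_open (T ⊓ O).2 ⟨hzT, hz⟩,
      Y.presheaf.map (homOfLE (inf_le_left : T ⊓ O ≤ T)).op a, ?_⟩
    rw [← hwc]
    refine (Y.presheaf.germ_res_apply _ _ _ a).trans ?_
    exact (ConcreteCategory.congr_hom (TopCat.Presheaf.germ_stalkSpecializes Y.presheaf hzT hs) a).symm
  choose T hTO hzT hηT a hac using hloc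
  obtain ⟨A, hA, -⟩ := Y.sheaf.existsUnique_gluing' T O (fun z => homOfLE (hTO z))
    (fun z hz => Opens.mem_iSup.mpr ⟨⟨z, hz⟩, hzT ⟨z, hz⟩⟩) a (fun z z' =>
      C.ext_of_germ ((inf_le_left.trans (hTO z)).trans hO) ⟨hηT z, hηT z'⟩ (by
        refine (Y.presheaf.germ_res_apply _ _ _ _).trans ?_
        refine Eq.trans ?_ (Y.presheaf.germ_res_apply _ _ _ _).symm
        rw [hac, hac]))
  refine ⟨A, ?_⟩
  have z : O := ⟨C.η, hη⟩
  rw [← hac z, ← hA z]
  exact (Y.presheaf.germ_res_apply _ _ _ _).symm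

variable (f : X ⟶ Y) (𝓙 : X.IdealSheafData)

/-- Two fractions of functions with the same ideal. -/
theorem exists_ratio [Flat f] [IsLocallyNoetherian Y] (hY : Pi1.IsNormalScheme Y) (C : Chart Y)
    {W : X.Opens} {γ γ' t : Γ(X, W)} (hγ : γ' = γ * t) {a e a' : Y.presheaf.stalk C.η} (ha : a ≠ 0)
    (hq : e * a = a') (hγa : (f.fiberι C.η).app W γ = sc f C.η W a)
    (hγa' : (f.fiberι C.η).app W γ' = sc f C.η W a') {z : X} (hz : z ∈ W) (hzC : f z ∈ C.V) :
    ∃ (h : C.η ⤳ f z) (d : Y.presheaf.stalk (f z)), spR h d = e := by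
  have hu := isUnit_sc f C ha W
  have h1 : (f.fiberι C.η).app W t = sc f C.η W e := by
    refine hu.mul_left_cancel ?_
    rw [← map_mul, mul_comm a e, hq, ← hγa', hγ, map_mul, hγa]
  obtain ⟨h, d, hd, -⟩ := exists_stalk f C hY h1 hz hzC
  exact ⟨h, d, hd⟩

/-- Data for equations over the same point differ by units. -/
theorem compat_ideal [Flat f] [IsLocallyNoetherian Y] (hY : Pi1.IsNormalScheme Y) (C : Chart Y)
    {W W' : X.Opens} (hW : IsAffineOpen W) (hW' : IsAffineOpen W') {b : Γ(X, W)} {b' : Γ(X, W')}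
    (hb : 𝓙.ideal ⟨W, hW⟩ = Ideal.span {b}) (hb' : 𝓙.ideal ⟨W', hW'⟩ = Ideal.span {b'})
    {c c' : Y.presheaf.stalk C.η} (hbc : (f.fiberι C.η).app W b = sc f C.η W c)
    (hbc' : (f.fiberι C.η).app W' b' = sc f C.η W' c') {z : X} (hz : z ∈ W) (hz' : z ∈ W')
    (hzC : f z ∈ C.V) (hc : c ≠ 0) (hc' : c' ≠ 0) :
    ∃ u, UnAt C.η (f z) u ∧ c' = u * c := by
  letI := C.fieldK
  obtain ⟨W'', hW'', hzW, hle⟩ :=
    exists_isAffineOpen_mem_and_subset (U := W ⊓ W') (x := z) ⟨hz, hz'⟩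
  have h1 : W'' ≤ W := hle.trans inf_le_left
  have h2 : W'' ≤ W' := hle.trans inf_le_right
  let β := X.presheaf.map (homOfLE h1).op b
  let β' := X.presheaf.map (homOfLE h2).op b'
  have e1 : 𝓙.ideal ⟨W'', hW''⟩ = Ideal.span {β} :=
    EffCartier.restrict_eq (U := ⟨W, hW⟩) (V := ⟨W'', hW''⟩) h1 hb
  have e2 : 𝓙.ideal ⟨W'', hW''⟩ = Ideal.span {β'} :=
    EffCartier.restrict_eq (U := ⟨W', hW'⟩) (V := ⟨W'', hW''⟩) h2 hb'
  have e : Ideal.span {β} = Ideal.span {β'} := e1.symm.trans e2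
  have m : β' ∈ Ideal.span {β} := by rw [e]; exact Ideal.mem_span_singleton_self β'
  have m' : β ∈ Ideal.span {β'} := by rw [← e]; exact Ideal.mem_span_singleton_self β
  obtain ⟨τ, hτ⟩ := Ideal.mem_span_singleton.mp m
  obtain ⟨τ', hτ'⟩ := Ideal.mem_span_singleton.mp m'
  have hβ : (f.fiberι C.η).app W'' β = sc f C.η W'' c :=
    (app_res f C.η h1 b).symm.trans ((congrArg _ hbc).trans (fres_sc f C.η h1 c))
  have hβ' : (f.fiberι C.η).app W'' β' = sc f C.η W'' c' :=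
    (app_res f C.η h2 b').symm.trans ((congrArg _ hbc').trans (fres_sc f C.η h2 c'))
  obtain ⟨h, d, hd⟩ := exists_ratio f hY C hτ hc (div_mul_cancel₀ c' hc) hβ hβ' hzW hzC
  obtain ⟨_, d', hd'⟩ := exists_ratio f hY C hτ' hc' (div_mul_cancel₀ c hc') hβ' hβ hzW hzC
  refine ⟨c' / c, ⟨h, d, IsUnit.of_mul_eq_one d' (C.specializes_injective hzC ?_), hd⟩,
    (div_mul_cancel₀ _ hc).symm⟩
  show spR h (d * d') = spR h 1
  rw [map_mul, map_one, hd, hd', div_mul_div_cancel₀ hc, div_self hc']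

/-- The local data. -/
def idealData [Flat f] [IsLocallyNoetherian Y] (hY : Pi1.IsNormalScheme Y)
    (hfib : ∀ y : Y, ringKrullDim (Y.presheaf.stalk y) = 1 → IsIntegral (f.fiber y))
    (hJ : BlowUp.IsEffCartierIdeal 𝓙)
    (htriv : ∀ η : Y, (∀ z : Y, z ⤳ η → z = η) → 𝓙.comap (f.fiberι η) = ⊤) : Data f where
  P η W c := ∃ (hW : IsAffineOpen W) (b : Γ(X, W)), 𝓙.ideal ⟨W, hW⟩ = Ideal.span {b} ∧
    (f.fiberι η).app W b = sc f η W c
  exists_data C x hx := by
    obtain ⟨U, hxU, hUV, b, -, hb⟩ := EffCartier.exists_equation hJ x (f ⁻¹ᵁ C.V) hx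
    have hb1 : IsUnit ((f.fiberι C.η).app U.1 b) := by
      have h1 := Comap.ideal_comap_app 𝓙 (f.fiberι C.η) U (U.2.preimage _)
      rw [htriv C.η (isMax_η C), hb, Ideal.map_span, Set.image_singleton,
        Scheme.IdealSheafData.ideal_top] at h1
      exact Ideal.span_singleton_eq_top.mp h1.symm
    obtain ⟨W, hWU, w, c, hW, hxW, hw, hc, hfac⟩ := exists_factor f C hY hfib U.2 hUV hxU _ hb1
    refine ⟨W, c, hxW, hc, hW, X.presheaf.map (homOfLE hWU).op b * w, ?_, ?_⟩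
    · rw [EffCartier.restrict_eq (U := U) (V := ⟨W, hW⟩) hWU hb, Ideal.span_singleton_mul_right_unit hw]
    · rw [map_mul, ← app_res f C.η hWU b, ← hfac]
  compat C W W' c c' z hz hz' hzC hc hc' := by
    rintro ⟨hW, b, hb, hbc⟩ ⟨hW', b', hb', hbc'⟩
    exact compat_ideal f 𝓙 hY C hW hW' hb hb' hbc hbc' hz hz' hzC hc hc'

/-- An effective divisor trivial on the generic fibres comes from the base. -/
theorem exists_ideal_descent [Flat f] [Surjective f] [IsLocallyNoetherian Y] (hY : Pi1.IsNormalScheme Y)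
    (hfib : ∀ y : Y, ringKrullDim (Y.presheaf.stalk y) = 1 → IsIntegral (f.fiber y))
    (hf : QuasiCompact f ∨ IsOpenMap f) (hJ : BlowUp.IsEffCartierIdeal 𝓙)
    (htriv : ∀ η : Y, (∀ z : Y, z ⤳ η → z = η) → 𝓙.comap (f.fiberι η) = ⊤) :
    ∃ 𝓘 : Y.IdealSheafData, BlowUp.IsEffCartierIdeal 𝓘 ∧ 𝓘.comap f = 𝓙 := by
  classical
  obtain ⟨G⟩ := exists_glued (idealData f 𝓙 hY hfib hJ htriv) hY hfib hf
  have hdata : ∀ i (x : X), f x ∈ G.V i → ∃ (W : X.Opens) (hW : IsAffineOpen W) (b : Γ(X, W))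
      (u : Y.presheaf.stalk (G.C i).η), x ∈ W ∧ UnAt (G.C i).η (f x) u ∧
      𝓙.ideal ⟨W, hW⟩ = Ideal.span {b} ∧
      (f.fiberι (G.C i).η).app W b = sc f (G.C i).η W (u * G.c i) := by
    intro i x hx
    obtain ⟨W, c, hxW, hc, hP⟩ := (idealData f 𝓙 hY hfib hJ htriv).exists_data (G.C i) x (G.le i hx)
    obtain ⟨u, hu, rfl⟩ := G.good i x W c hxW hx hc hP
    obtain ⟨hW, b, hb, hbc⟩ := hP
    exact ⟨W, hW, b, u, hxW, hu, hb, hbc⟩
  -- the equations
  have heq : ∀ i, ∃ d : Γ(Y, G.V i), ∀ hη : (G.C i).η ∈ G.V i, Y.presheaf.germ (G.V i) (G.C i).η hη d = G.c i := by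
    intro i
    by_cases hη : (G.C i).η ∈ G.V i
    swap
    · exact ⟨0, fun h => absurd h hη⟩
    obtain ⟨d, hd⟩ := exists_regular (G.C i) (G.le i) hη (G.c i) fun z hz => by
      letI := (G.C i).fieldK
      obtain ⟨x, rfl⟩ := f.surjective z
      obtain ⟨W, hW, b, u, hxW, hu, -, hbc⟩ := hdata i x hz
      obtain ⟨h, d, hd, -⟩ := exists_stalk f (G.C i) hY hbc hxW (G.le i hz)
      obtain ⟨_, w, hw, hwu⟩ := hu
      refine ⟨h, d * ↑hw.unit⁻¹, ?_⟩
      have hwu' : spR h w = u := hwu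
      rw [map_mul, hd, ← hwu', mul_comm, ← mul_assoc, ← map_mul, hw.val_inv_mul, map_one, one_mul]
    exact ⟨d, fun _ => hd⟩
  choose d hd using heq
  -- transition
  have htr : ∀ i j, QCoh.rres (inf_le_right : G.V i ⊓ G.V j ≤ G.V j) (d j) =
      G.a i j * QCoh.rres (inf_le_left : G.V i ⊓ G.V j ≤ G.V i) (d i) := by
    intro i j
    by_cases hη : (G.C i).η ∈ G.V i ⊓ G.V j
    swap
    · exact (G.C i).ext_of_empty (inf_le_left.trans (G.le i)) hη _ _
    refine (G.C i).ext_of_germ (inf_le_left.trans (G.le i)) hη ?_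
    have hsp : (G.C i).η ⤳ (G.C j).η :=
      specializes_of_eq ((G.C i).eq_η_of (G.C i).η_mem (G.le j hη.2))
    have hηj : (G.C j).η ∈ G.V j := (G.C j).η_mem_of_nonempty (G.le j hη.2) hη.2
    rw [map_mul, germ_rres', germ_rres', hd i, G.trans i j hη hsp, ← hd j hηj, spR_germ]
  -- the stalkwise family
  have hmem : ∀ y : Y, ∃ i, y ∈ G.V i := fun y => Opens.mem_iSup.1 (G.cover (trivial : y ∈ (⊤ : Y.Opens)))
  choose idx hidx using hmem
  let dM : ∀ i, Γ(Props.SubIdeal.unitMod Y, G.V i) := fun i => d i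
  let S : Props.SubMod.StalkSub (Props.SubIdeal.unitMod Y) := fun y =>
    Props.SubMod.spanGerm ({dM (idx y)} : Set Γ(Props.SubIdeal.unitMod Y, G.V (idx y))) y (hidx y)
  have hgen : ∀ i, Props.SubMod.GenBy S (G.V i) ({dM i} : Set Γ(Props.SubIdeal.unitMod Y, G.V i)) := by
    intro i y hy
    have key : ∀ i j (hi : y ∈ G.V i) (hj : y ∈ G.V j),
        Props.SubMod.spanGerm ({dM j} : Set Γ(Props.SubIdeal.unitMod Y, G.V j)) y hj ≤
          Props.SubMod.spanGerm ({dM i} : Set Γ(Props.SubIdeal.unitMod Y, G.V i)) y hi := by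
      intro i j hi hj
      rw [← Props.SubMod.spanGerm_res (inf_le_left : G.V i ⊓ G.V j ≤ G.V i) _ y ⟨hi, hj⟩,
        ← Props.SubMod.spanGerm_res (inf_le_right : G.V i ⊓ G.V j ≤ G.V j) _ y ⟨hi, hj⟩,
        Set.image_singleton, Set.image_singleton, Props.SubMod.spanGerm, Submodule.span_le]
      rintro _ ⟨_, rfl, rfl⟩
      refine Props.SubMod.germ_mem_spanGerm_of_mem_span (V := G.V i ⊓ G.V j) ?_ y ⟨hi, hj⟩
      exact Submodule.mem_span_singleton.mpr ⟨G.a i j, (htr i j).symm⟩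
    exact le_antisymm (key i (idx y) hy (hidx y)) (key (idx y) i (hidx y) hy)
  have hFT : Props.SubMod.FTOn S ⊤ := fun y _ => by
    obtain ⟨V, hV, hyV, hle⟩ := exists_isAffineOpen_mem_and_subset (U := G.V (idx y)) (x := y) (hidx y)
    have hle' : V ≤ G.V (idx y) := hle
    refine ⟨V, hV, hyV, le_top, {QCoh.res (Props.SubIdeal.unitMod Y) hle' (dM (idx y))}, ?_⟩
    rw [Finset.coe_singleton, ← Set.image_singleton]
    exact (hgen (idx y)).restrict hle'
  choose T hT using fun V : Y.affineOpens => Props.SubMod.exists_genBy hFT V.2 le_top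
  let I : Y.IdealSheafData :=
    { ideal := fun V => Props.SubIdeal.idealSections S V
      map_ideal_basicOpen := fun V g => by
        rw [Props.SubIdeal.idealSections_eq_span V.2 (hT V),
          Props.SubIdeal.idealSections_eq_span (Y.affineBasicOpen g).2 ((hT V).restrict (Y.basicOpen_le g)),
          Ideal.map_span]
        rfl }
  have hI : ∀ i (V : Y.affineOpens) (h : V.1 ≤ G.V i), I.ideal V = Ideal.span {QCoh.rres h (d i)} := by
    intro i V h
    have h1 := (hgen i).restrict h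
    erw [Set.image_singleton] at h1
    exact Props.SubIdeal.idealSections_eq_span V.2 h1
  refine ⟨I, fun y => ?_, ?_⟩
  · obtain ⟨V, hV, hyV, hle⟩ := exists_isAffineOpen_mem_and_subset (U := G.V (idx y)) (x := y) (hidx y)
    have hle' : V ≤ G.V (idx y) := hle
    refine ⟨⟨V, hV⟩, hyV, QCoh.rres hle' (d (idx y)), mem_nonZeroDivisors_iff_right.mpr fun t ht => ?_, hI _ ⟨V, hV⟩ hle'⟩
    set C := G.C (idx y)
    letI := C.fieldK
    have hVC : V ≤ C.V := hle'.trans (G.le _)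
    have hη : C.η ∈ V := C.η_mem_of_nonempty (hVC hyV) hyV
    refine C.ext_of_germ hVC hη ?_
    rw [map_zero]
    have h1 := congrArg (Y.presheaf.germ V C.η hη) ht
    rw [map_mul, germ_rres', hd _ (hle' hη), map_zero] at h1
    exact (mul_eq_zero.mp h1).resolve_right (G.ne_zero _)
  · refine Comap.ext_of_forall_exists _ _ fun x => ?_
    set i := idx (f x)
    obtain ⟨W, hW, b, u, hxW, hu, hb, hbc⟩ := hdata i x (hidx (f x))
    obtain ⟨N, w, hxN, hw, hwu⟩ := exists_unit_nhd f (G.C i) hu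
    obtain ⟨U, hU, hxU, hUle⟩ :=
      exists_isAffineOpen_mem_and_subset (U := N ⊓ G.V i) (x := f x) ⟨hxN, hidx (f x)⟩
    have hUN : U ≤ N := hUle.trans inf_le_left
    have hUV : U ≤ G.V i := hUle.trans inf_le_right
    obtain ⟨O, hO, hxO, hOle⟩ :=
      exists_isAffineOpen_mem_and_subset (U := W ⊓ f ⁻¹ᵁ U) (x := x) ⟨hxW, hxU⟩
    have hOW : O ≤ W := hOle.trans inf_le_left
    have hOU : O ≤ f ⁻¹ᵁ U := hOle.trans inf_le_right
    have hη : (G.C i).η ∈ U := (G.C i).η_mem_of_nonempty (G.le i (hUV hxU)) hxU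
    refine ⟨⟨O, hO⟩, hxO, ?_⟩
    rw [Comap.ideal_comap I f ⟨U, hU⟩ ⟨O, hO⟩ hOU, hI i ⟨U, hU⟩ hUV, Ideal.map_span, Set.image_singleton,
      EffCartier.restrict_eq (U := ⟨W, hW⟩) (V := ⟨O, hO⟩) hOW hb]
    set ι := f.fiberι (G.C i).η
    have hON : O ≤ f ⁻¹ᵁ N := hOU.trans (f.preimage_mono hUN)
    let r : Γ(X, O) := X.presheaf.map (homOfLE hON).op (f.app N w)
    have hr : IsUnit r := (hw.map (f.app N).hom).map _
    have hru : ι.app O r = sc f (G.C i).η O u :=
      (app_res f (G.C i).η hON (f.app N w)).symm.trans ((congrArg _ hwu).trans (fres_sc f (G.C i).η hON u))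
    have hkey : ∀ a : Γ(Y, U), ι.app O ((f.appLE U O hOU).hom a) =
        sc f (G.C i).η O (Y.presheaf.germ U (G.C i).η hη a) := fun a => by
      have h1 := Φ_germ f (G.C i).η U hη a (ι ⁻¹ᵁ O) (ι.preimage_mono hOU)
      exact (app_res f (G.C i).η hOU (f.app U a)).symm.trans h1.symm
    have h1 : X.presheaf.map (homOfLE hOW).op b = r * (f.appLE U O hOU).hom (QCoh.rres hUV (d i)) := by
      refine ext_of_fibre f (G.C i) (hOU.trans (f.preimage_mono (hUV.trans (G.le i)))) ?_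
      rw [← app_res f (G.C i).η hOW b, hbc, fres_sc f (G.C i).η hOW, map_mul, map_mul, hkey, germ_rres', hd i, hru]
    rw [h1, Ideal.span_singleton_mul_left_unit hr]

end Groth.Agent.DescFlat
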