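import Groth.Agent.DescFlat.Common
import Groth.Agent.AmpleLib.GenIso
import Groth.Agent.Props.GenPull
import Groth.Agent.PerfSch.DescSec

/-!
# Descent of invertible modules trivial on the generic fibres
-/

set_option autoImplicit false
set_option linter.style.haveILetI false
set_option backward.isDefEq.respectTransparency false
set_option backward.isDefEq.respectTransparency.types false

universe u

open CategoryTheory CategoryTheory.Limits AlgebraicGeometry Opposite TopologicalSpace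

noncomputable section

namespace Groth.Agent.DescFlat

open Groth.Agent.InvExt Groth.Agent.QCoh Groth.Agent.Props.GenLocus Groth.Agent.Props.GenPull
  Groth.Agent.Props.GenProd

variable {X Y : Scheme.{u}} (f : X ⟶ Y) (L : X.Modules)

/-- The maximal points. -/
def IsMax (η : Y) : Prop := ∀ z : Y, z ⤳ η → z = η

/-- A chosen section on every fibre over a maximal point. -/
abbrev Triv : Type u := ∀ η : Y, IsMax η → Γ((Scheme.Modules.pullback (f.fiberι η)).obj L, ⊤)

variable {f L} (σ : Triv f L)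

/-- On the fibre the section `g` is `c` times the chosen section. -/
def Adapted (η : Y) (O : X.Opens) (g : Γ(L, O)) (c : Y.presheaf.stalk η) : Prop :=
  ∃ h : IsMax η, pb (f.fiberι η) g =
    sc f η O c • res _ (le_top : f.fiberι η ⁻¹ᵁ O ≤ ⊤) (σ η h)

lemma Adapted.restrict {η : Y} {O O' : X.Opens} {g : Γ(L, O)} {c : Y.presheaf.stalk η}
    (h : Adapted σ η O g c) (hle : O' ≤ O) : Adapted σ η O' (res L hle g) c := by
  obtain ⟨hm, he⟩ := h
  refine ⟨hm, ?_⟩
  have h1 := congrArg (res _ ((f.fiberι η).preimage_mono hle)) he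
  rw [res_smul, res_res] at h1
  rw [show pb (f.fiberι η) (res L hle g) = res _ ((f.fiberι η).preimage_mono hle) (pb (f.fiberι η) g) from
    LFFrame.unitSec_res _ _ hle g, h1]
  congr 1
  exact fres_sc f η hle c

lemma Adapted.smul {η : Y} {O : X.Opens} {g : Γ(L, O)} {c u : Y.presheaf.stalk η}
    (h : Adapted σ η O g c) {r : Γ(X, O)} (hr : (f.fiberι η).app O r = sc f η O u) :
    Adapted σ η O (r • g) (u * c) := by
  obtain ⟨hm, he⟩ := h
  refine ⟨hm, ?_⟩
  rw [show pb (f.fiberι η) (r • g) = (f.fiberι η).app O r • pb (f.fiberι η) g from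
    LFFrame.unitSec_smul _ _ _ r g, he, hr, smul_smul, map_mul]

lemma Adapted.transport {η η' : Y} {O : X.Opens} {g : Γ(L, O)} {c : Y.presheaf.stalk η'}
    (h : Adapted σ η' O g c) (e : η = η') (hs : η ⤳ η') :
    Adapted σ η O g (Ref1.spR hs c) := by
  subst e
  rwa [spR_refl']

variable (hσ : ∀ η h, IsGen _ ⊤ (σ η h)) (C : Chart Y)

include hσ

lemma Adapted.eq_sc {η : Y} {O : X.Opens} {g g' : Γ(L, O)} {τ : Γ(X, O)} (e : g' = τ • g)
    {c c' : Y.presheaf.stalk η} (h : Adapted σ η O g c) (h' : Adapted σ η O g' c') :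
    (f.fiberι η).app O τ * sc f η O c = sc f η O c' := by
  obtain ⟨hm, he⟩ := h
  obtain ⟨_, he'⟩ := h'
  refine (hσ η hm).injective le_top ?_
  rw [← he', e, show pb (f.fiberι η) (τ • g) = (f.fiberι η).app O τ • pb (f.fiberι η) g from
    LFFrame.unitSec_smul _ _ _ τ g, he, smul_smul]

/-- An adapted generator is unique. -/
theorem Adapted.unique [Flat f] {O : X.Opens} (hO : O ≤ f ⁻¹ᵁ C.V) {g g' : Γ(L, O)}
    (hg : IsGen L O g) {c : Y.presheaf.stalk C.η} (hc : c ≠ 0) (h : Adapted σ C.η O g c)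
    (h' : Adapted σ C.η O g' c) : g = g' := by
  obtain ⟨τ, hτ, -⟩ := hg.exists_eq le_rfl g'
  rw [res_self] at hτ
  have h1 := Adapted.eq_sc σ hσ hτ h h'
  have h2 : τ = 1 := by
    refine ext_of_fibre f C hO ?_
    rw [map_one]
    refine (isUnit_sc f C hc O).mul_right_cancel ?_
    rw [h1, one_mul]
  rw [hτ, h2, one_smul]

/-- The local data. -/
def lineData [Flat f] [IsLocallyNoetherian Y] (hY : Pi1.IsNormalScheme Y)
    (hfib : ∀ y : Y, ringKrullDim (Y.presheaf.stalk y) = 1 → IsIntegral (f.fiber y))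
    (hL : PicF.IsInvertible L) : Data f where
  P η W c := ∃ g : Γ(L, W), IsGen L W g ∧ Adapted σ η W g c
  exists_data C x hx := by
    obtain ⟨U, e, hxU, he⟩ := exists_isGen hL x
    obtain ⟨W, hW, hxW, hle⟩ := exists_isAffineOpen_mem_and_subset (U := U ⊓ f ⁻¹ᵁ C.V) (x := x) ⟨hxU, hx⟩
    have h1 : W ≤ U := hle.trans inf_le_left
    have h2 : W ≤ f ⁻¹ᵁ C.V := hle.trans inf_le_right
    have hm : IsMax C.η := isMax_η C
    let g₀ := res L h1 e
    have hg₀ : IsGen L W g₀ := he.restrict h1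
    obtain ⟨α, hα, hαeq⟩ := exists_unit_smul
      ((hσ C.η hm).restrict (le_top : f.fiberι C.η ⁻¹ᵁ W ≤ ⊤)) (isGen_pb (f.fiberι C.η) hg₀)
    obtain ⟨W', hWW, w, c, hW', hxW', hw, hc, hfac⟩ := exists_factor f C hY hfib hW h2 hxW α hα
    refine ⟨W', c, hxW', hc, w • res L hWW g₀, (hg₀.restrict hWW).smul_unit hw, hm, ?_⟩
    have h3 := congrArg (res _ ((f.fiberι C.η).preimage_mono hWW)) hαeq
    rw [res_smul, res_res] at h3
    rw [show pb (f.fiberι C.η) (w • res L hWW g₀) = (f.fiberι C.η).app W' w • pb (f.fiberι C.η) (res L hWW g₀)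
      from LFFrame.unitSec_smul _ _ _ w _,
      show pb (f.fiberι C.η) (res L hWW g₀) = res _ ((f.fiberι C.η).preimage_mono hWW) (pb (f.fiberι C.η) g₀)
      from LFFrame.unitSec_res _ _ hWW g₀, h3, smul_smul, mul_comm]
    congr 1
  compat C W W' c c' z hz hz' hzC hc hc' := by
    rintro ⟨g, hg, hga⟩ ⟨g', hg', hga'⟩
    letI := C.fieldK
    obtain ⟨W'', -, hzW, hle⟩ :=
      exists_isAffineOpen_mem_and_subset (U := W ⊓ W') (x := z) ⟨hz, hz'⟩
    have h1 : W'' ≤ W := hle.trans inf_le_left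
    have h2 : W'' ≤ W' := hle.trans inf_le_right
    obtain ⟨τ, hτ, hτeq⟩ := exists_unit_smul (hg.restrict h1) (hg'.restrict h2)
    have h3 := Adapted.eq_sc σ hσ hτeq (hga.restrict σ h1) (hga'.restrict σ h2)
    refine ⟨c' / c, unAt_of_isUnit f C hY hτ ((isUnit_sc f C hc W'').mul_right_cancel ?_) hzW hzC,
      (div_mul_cancel₀ _ hc).symm⟩
    rw [h3, ← map_mul, div_mul_cancel₀ _ hc]

/-- An invertible module trivial on the generic fibres comes from the base. -/
theorem exists_descent [Flat f] [Surjective f] [IsLocallyNoetherian Y] (hY : Pi1.IsNormalScheme Y)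
    (hfib : ∀ y : Y, ringKrullDim (Y.presheaf.stalk y) = 1 → IsIntegral (f.fiber y))
    (hf : QuasiCompact f ∨ IsOpenMap f) (hL : PicF.IsInvertible L) :
    ∃ M : Y.Modules, PicF.IsInvertible M ∧ Nonempty ((Scheme.Modules.pullback f).obj M ≅ L) := by
  classical
  obtain ⟨G⟩ := exists_glued (lineData σ hσ hY hfib hL) hY hfib hf
  have hloc : ∀ i (x : (f ⁻¹ᵁ G.V i : X.Opens)), ∃ (O : X.Opens) (g : Γ(L, O)),
      x.1 ∈ O ∧ O ≤ f ⁻¹ᵁ G.V i ∧ IsGen L O g ∧ Adapted σ (G.C i).η O g (G.c i) := by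
    rintro i ⟨x, hx⟩
    obtain ⟨W, c, hxW, hc, hP⟩ := (lineData σ hσ hY hfib hL).exists_data (G.C i) x (G.le i hx)
    obtain ⟨u, hu, rfl⟩ := G.good i x W c hxW hx hc hP
    obtain ⟨g, hg, hga⟩ := hP
    obtain ⟨N, w, hxN, ⟨w, rfl⟩, hwu⟩ := exists_unit_nhd f (G.C i) hu
    let O := W ⊓ f ⁻¹ᵁ (N ⊓ G.V i)
    have h1 : O ≤ W := inf_le_left
    have h2 : O ≤ f ⁻¹ᵁ N := inf_le_right.trans (f.preimage_mono inf_le_left)
    let r : Γ(X, O) := X.presheaf.map (homOfLE h2).op (f.app N (w : Γ(Y, N)))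
    let r' : Γ(X, O) := X.presheaf.map (homOfLE h2).op (f.app N (↑w⁻¹ : Γ(Y, N)))
    have hrr : r' * r = 1 := by
      simp only [r, r', ← map_mul, Units.inv_mul, map_one]
    have hr : (f.fiberι (G.C i).η).app O r = sc f (G.C i).η O u := by
      simp only [r]
      rw [← app_res f (G.C i).η h2, hwu]
      exact fres_sc f (G.C i).η h2 u
    refine ⟨O, r' • res L h1 g, ⟨hxW, hxN, hx⟩, inf_le_right.trans (f.preimage_mono inf_le_right),
      (hg.restrict h1).smul_unit (IsUnit.of_mul_eq_one r hrr), ?_⟩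
    letI := (G.C i).fieldK
    have hu0 : u ≠ 0 := fun h0 => hc (by rw [h0, zero_mul])
    have hr' : (f.fiberι (G.C i).η).app O r' = sc f (G.C i).η O u⁻¹ := by
      refine (isUnit_sc f (G.C i) hu0 O).mul_right_cancel ?_
      rw [← map_mul, inv_mul_cancel₀ hu0, ← hr, ← map_mul, hrr, map_one, map_one]
    have h3 := (hga.restrict σ h1).smul σ hr'
    rwa [inv_mul_cancel_left₀ hu0] at h3
  choose O g hxO hOV hg hga using hloc
  have hunique : ∀ i x y, res L (inf_le_left : O i x ⊓ O i y ≤ O i x) (g i x) =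
      res L (inf_le_right : O i x ⊓ O i y ≤ O i y) (g i y) := fun i x y =>
    Adapted.unique σ hσ (G.C i) ((inf_le_left.trans (hOV i x)).trans (f.preimage_mono (G.le i)))
      ((hg i x).restrict _) (G.ne_zero i) ((hga i x).restrict σ _) ((hga i y).restrict σ _)
  have hcov : ∀ i, f ⁻¹ᵁ G.V i ≤ ⨆ x, O i x := fun i x hx => Opens.mem_iSup.mpr ⟨⟨x, hx⟩, hxO i ⟨x, hx⟩⟩
  choose s hs using fun i => exists_glue L (hOV i) (hcov i) (g i) (hunique i)
  have hsgen : ∀ i, IsGen L (f ⁻¹ᵁ G.V i) (s i) := fun i => IsGen.of_local fun x hx =>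
    ⟨O i ⟨x, hx⟩, hOV i _, hxO i _, by rw [hs]; exact hg i _⟩
  have htr : ∀ i j, res L (f.preimage_mono (inf_le_right : G.V i ⊓ G.V j ≤ G.V j)) (s j) =
      f.app _ (G.a i j) • res L (f.preimage_mono (inf_le_left : G.V i ⊓ G.V j ≤ G.V i)) (s i) := by
    intro i j
    refine eq_of_locally_eq L (ι := (f ⁻¹ᵁ G.V i : X.Opens) × (f ⁻¹ᵁ G.V j : X.Opens))
      (U := fun p => O i p.1 ⊓ O j p.2) (fun p => inf_le_inf (hOV i p.1) (hOV j p.2))
      (fun x hx => Opens.mem_iSup.mpr ⟨(⟨x, hx.1⟩, ⟨x, hx.2⟩), hxO i _, hxO j _⟩) _ _ ?_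
    rintro ⟨x, y⟩
    have hle : O i x ⊓ O j y ≤ f ⁻¹ᵁ (G.V i ⊓ G.V j) := inf_le_inf (hOV i x) (hOV j y)
    show res L hle (res L _ (s j)) = res L hle (_ • res L _ (s i))
    rw [res_res, res_smul, res_res]
    rw [← res_res L (hOV j y) inf_le_right, hs, ← res_res L (hOV i x) inf_le_left, hs]
    rcases em ((G.C i).η ∈ G.V i ⊓ G.V j) with hne | hne
    swap
    · refine eq_of_locally_eq L (ι := PEmpty.{1}) (U := fun e => e.elim) (fun e => e.elim)
        (fun z hz => absurd ((G.C i).η_mem_of_nonempty (G.le i (hle hz).1) (hle hz)) hne) _ _ fun e => e.elim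
    letI := (G.C i).fieldK
    have heq : (G.C i).η = (G.C j).η := (G.C i).eq_η_of (G.C i).η_mem (G.le j hne.2)
    have hsp : (G.C i).η ⤳ (G.C j).η := specializes_of_eq heq
    have hj := ((hga j y).restrict σ (inf_le_right : O i x ⊓ O j y ≤ O j y)).transport σ heq hsp
    rw [← G.trans i j hne hsp] at hj
    have hr : (f.fiberι (G.C i).η).app (O i x ⊓ O j y) (rres hle (f.app _ (G.a i j))) =
        sc f (G.C i).η (O i x ⊓ O j y) (Y.presheaf.germ _ (G.C i).η hne (G.a i j)) := by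
      have h1 := Φ_germ f (G.C i).η _ hne (G.a i j) (f.fiberι (G.C i).η ⁻¹ᵁ (O i x ⊓ O j y))
        ((f.fiberι (G.C i).η).preimage_mono hle)
      exact (app_res f (G.C i).η hle (f.app _ (G.a i j))).symm.trans h1.symm
    exact (Adapted.unique σ hσ (G.C i) ((inf_le_left.trans (hOV i x)).trans (f.preimage_mono (G.le i)))
      (((hg i x).restrict _).smul_unit (((G.isUnit i j).map (f.app _).hom).map (rres hle).hom))
      (mul_ne_zero (fun h0 => (G.isUnit i j).map (Y.presheaf.germ _ (G.C i).η hne).hom |>.ne_zero h0) (G.ne_zero i))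
      (((hga i x).restrict σ _).smul σ hr) hj).symm
  refine ⟨LineCoc.mod G.cocycle, LineCoc.isInvertible _, ?_⟩
  obtain ⟨e, -⟩ := AmpleLib.exists_iso_of_gen (M := (Scheme.Modules.pullback f).obj (LineCoc.mod G.cocycle))
    (N := L) (fun i : G.ι => f ⁻¹ᵁ G.V i)
    (fun z _ => by
      obtain ⟨i, hi⟩ := Opens.mem_iSup.1 (G.cover (trivial : f z ∈ (⊤ : Y.Opens)))
      exact Opens.mem_iSup.2 ⟨i, hi⟩)
    (fun i => pb f (LineCoc.gen G.cocycle i)) (fun i => isGen_pb f (LineCoc.isGen_gen G.cocycle i))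
    s hsgen
    (fun i j V hi hj w hw => by
      have hV : V ≤ f ⁻¹ᵁ (G.V i ⊓ G.V j) := le_inf hi hj
      have h3 := congrArg (LFFrame.unitSec f (LineCoc.mod G.cocycle) (G.V i ⊓ G.V j))
        (LineCoc.res_gen_eq G.cocycle i j)
      erw [LFFrame.unitSec_smul, LFFrame.unitSec_res, LFFrame.unitSec_res] at h3
      have h4 := congrArg (res _ hV) h3
      rw [res_res, res_smul, res_res] at h4
      have h5 : w = rres hV (f.app _ (G.a i j)) :=
        (isGen_pb f (LineCoc.isGen_gen G.cocycle i)).injective hi (hw.symm.trans h4)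
      have h6 := congrArg (res L hV) (htr i j)
      rw [res_res, res_smul, res_res] at h6
      rw [h5]
      exact h6)
  exact ⟨e⟩

end Groth.Agent.DescFlat
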