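import Groth.Agent.DescFlat.GenFibre
import Groth.Agent.DescFlat.Fibre
import Groth.Prelude.Def_Pi1

/-!
# Functions invertible on the generic fibre are, up to units, rational functions of the base
-/

set_option autoImplicit false
set_option linter.style.haveILetI false

universe u

open CategoryTheory AlgebraicGeometry Opposite TopologicalSpace

noncomputable section

namespace Groth.Agent.DescFlat

open Groth.Agent.InvExt

variable {X Y : Scheme.{u}} (f : X ⟶ Y) (C : Chart Y)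

/-- Restriction on the fibre. -/
abbrev fres (η : Y) {T T' : (f.fiber η).Opens} (h : T' ≤ T) : Γ(f.fiber η, T) →+* Γ(f.fiber η, T') :=
  ((f.fiber η).presheaf.map (homOfLE h).op).hom

/-- A scalar on a part of the fibre. -/
abbrev sc (η : Y) (W : X.Opens) : Y.presheaf.stalk η →+* Γ(f.fiber η, f.fiberι η ⁻¹ᵁ W) :=
  (fres f η (le_top : f.fiberι η ⁻¹ᵁ W ≤ ⊤)).comp (Φ f η)

lemma fres_sc (η : Y) {W W' : X.Opens} (h : W' ≤ W) (c : Y.presheaf.stalk η) :
    fres f η ((f.fiberι η).preimage_mono h) (sc f η W c) = sc f η W' c := by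
  show ((f.fiber η).presheaf.map _ ≫ (f.fiber η).presheaf.map _) _ = _
  rw [← Functor.map_comp]
  rfl

lemma app_res (η : Y) {W W' : X.Opens} (h : W' ≤ W) (b : Γ(X, W)) :
    fres f η ((f.fiberι η).preimage_mono h) ((f.fiberι η).app W b) =
      (f.fiberι η).app W' (X.presheaf.map (homOfLE h).op b) :=
  (ConcreteCategory.congr_hom ((f.fiberι η).naturality (homOfLE h).op) b).symm

lemma germ_res' {W : X.Opens} (hle : W ≤ f ⁻¹ᵁ C.V) {x : X} (hx : x ∈ W) (a : Γ(Y, C.V)) :
    X.presheaf.germ W x hx (res' f C hle a) = f.stalkMap x (Y.presheaf.germ C.V (f x) (hle hx) a) := by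
  rw [Scheme.Hom.germ_stalkMap_apply]
  exact X.presheaf.germ_res_apply (homOfLE hle) x hx _

lemma germ_ne_zero {y : Y} (hy : y ∈ C.V) {a : Γ(Y, C.V)} (ha : a ≠ 0) :
    Y.presheaf.germ C.V y hy a ≠ 0 := fun h => ha <| by
  have h1 := congrArg (Y.presheaf.stalkSpecializes (C.specializes hy)).hom h
  rw [map_zero] at h1
  exact IsFractionRing.injective Γ(Y, C.V) (Y.presheaf.stalk C.η)
    (((ConcreteCategory.congr_hom (TopCat.Presheaf.germ_stalkSpecializes Y.presheaf hy (C.specializes hy)) a).symm.trans h1).trans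
      (map_zero _).symm)

/-- A unit on the generic fibre near a point is a rational function of the base up to a unit. -/
theorem exists_factor [Flat f] [IsLocallyNoetherian Y] (hY : Pi1.IsNormalScheme Y)
    (hfib : ∀ y : Y, ringKrullDim (Y.presheaf.stalk y) = 1 → IsIntegral (f.fiber y))
    {W : X.Opens} (hW : IsAffineOpen W) (hle : W ≤ f ⁻¹ᵁ C.V) {x : X} (hx : x ∈ W)
    (α : Γ(f.fiber C.η, f.fiberι C.η ⁻¹ᵁ W)) (hα : IsUnit α) :
    ∃ (W' : X.Opens) (h : W' ≤ W) (w : Γ(X, W')) (c : Y.presheaf.stalk C.η), IsAffineOpen W' ∧ x ∈ W' ∧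
      IsUnit w ∧ c ≠ 0 ∧
      fres f C.η ((f.fiberι C.η).preimage_mono h) α * (f.fiberι C.η).app W' w = sc f C.η W' c := by
  classical
  obtain ⟨b, a, ha, hab⟩ := exists_frac_fibre f C hW hle α
  obtain ⟨b', a', ha', hab'⟩ := exists_frac_fibre f C hW hle (hα.unit⁻¹ : _ˣ).1
  have hbb : b * b' = res' f C hle (a * a') := by
    refine sub_eq_zero.mp (eq_zero_of_fibre f C hW hle ?_)
    rw [map_sub, map_mul, ← hab, ← hab', map_mul, map_mul, mul_mul_mul_comm, IsUnit.mul_val_inv, one_mul,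
      sub_self]
  let y := f x
  have hy : y ∈ C.V := hle hx
  obtain ⟨_, _⟩ := hY y
  letI := (f.stalkMap x).hom.toAlgebra
  haveI : Module.Flat (Y.presheaf.stalk y) (X.presheaf.stalk x) := Flat.stalkMap f x
  haveI : IsLocalHom (algebraMap (Y.presheaf.stalk y) (X.presheaf.stalk x)) := f.toLRSHom.prop x
  obtain ⟨a₁, wx, ha₁, hwx, haw⟩ := exists_base_factor (A := Y.presheaf.stalk y) (B := X.presheaf.stalk x)
    (fun p hp hh => fibPrime f hfib x p hp hh)
    (a := Y.presheaf.germ C.V y hy (a * a'))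
    (germ_ne_zero C hy (mul_ne_zero ha ha')) (b := X.presheaf.germ W x hx b) (b' := X.presheaf.germ W x hx b')
    (by rw [← map_mul, hbb]; exact germ_res' f C hle hx _)
  letI := TopCat.Presheaf.algebra_section_stalk Y.presheaf (⟨y, hy⟩ : C.V)
  haveI := C.affine.isLocalization_stalk ⟨y, hy⟩
  obtain ⟨⟨r, s⟩, hrs⟩ := IsLocalization.surj (C.pr y hy).asIdeal.primeCompl a₁
  have hs0 : (s.1 : Γ(Y, C.V)) ≠ 0 := fun h => s.2 (h ▸ Submodule.zero_mem _)
  have hr0 : r ≠ 0 := fun h => by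
    rw [h, map_zero] at hrs
    exact ha₁ ((IsLocalization.map_units (Y.presheaf.stalk y) s).mul_left_eq_zero.mp hrs)
  obtain ⟨T, hxT, w₀, hw₀⟩ := X.presheaf.exists_germ_eq wx
  let T' : X.Opens := X.basicOpen w₀ ⊓ W
  have hxT' : x ∈ T' := ⟨(X.mem_basicOpen w₀ x hxT).mpr (hw₀ ▸ hwx), hx⟩
  have hTT : T' ≤ T := inf_le_left.trans (X.basicOpen_le w₀)
  have heq : X.presheaf.germ T' x hxT' (X.presheaf.map (homOfLE (inf_le_right : T' ≤ W)).op
      (b * res' f C hle s.1) * X.presheaf.map (homOfLE hTT).op w₀) =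
      X.presheaf.germ T' x hxT' (X.presheaf.map (homOfLE (inf_le_right : T' ≤ W)).op (res' f C hle r)) := by
    rw [map_mul, X.presheaf.germ_res_apply, X.presheaf.germ_res_apply, X.presheaf.germ_res_apply, map_mul,
      germ_res' f C hle hx, germ_res' f C hle hx]
    refine Eq.trans ?_ (congrArg (f.stalkMap x) hrs)
    rw [map_mul, show f.stalkMap x a₁ = algebraMap (Y.presheaf.stalk y) (X.presheaf.stalk x) a₁ from rfl, haw,
      ← hw₀]
    exact mul_right_comm _ _ _
  obtain ⟨T'', hxT'', i₁, i₂, hT''⟩ := X.presheaf.germ_eq x hxT' hxT' _ _ heq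
  obtain ⟨W', hW', hxW', hW'le⟩ := exists_isAffineOpen_mem_and_subset (U := T'') (x := x) hxT''
  have h1 : W' ≤ W := hW'le.trans (i₁.le.trans inf_le_right)
  have h2 : W' ≤ T := hW'le.trans (i₁.le.trans hTT)
  let w : Γ(X, W') := X.presheaf.map (homOfLE h2).op w₀
  have hw : IsUnit w := by
    refine RingedSpace.isUnit_of_isUnit_germ X.toLocallyRingedSpace.toRingedSpace _ _ fun z hz => ?_
    have hzb : z ∈ X.basicOpen w₀ := (i₁.le (hW'le hz)).1
    exact (X.presheaf.germ_res_apply (homOfLE h2) z hz w₀).symm ▸ (X.mem_basicOpen w₀ z (X.basicOpen_le w₀ hzb)).mp hzb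
  have hkey : X.presheaf.map (homOfLE h1).op b * X.presheaf.map (homOfLE h1).op (res' f C hle s.1) * w =
      X.presheaf.map (homOfLE h1).op (res' f C hle r) := by
    refine TopCat.Presheaf.section_ext X.sheaf W' _ _ fun z hz => ?_
    have h3 := congrArg (X.presheaf.germ T'' z (hW'le hz)) hT''
    simp only [map_mul, TopCat.Presheaf.germ_res_apply] at h3
    show X.presheaf.germ W' z hz _ = X.presheaf.germ W' z hz _
    simp only [w, map_mul, TopCat.Presheaf.germ_res_apply]
    exact h3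
  letI := C.fieldK
  let g : Γ(Y, C.V) →+* Y.presheaf.stalk C.η := algebraMap Γ(Y, C.V) _
  have hg : ∀ {v : Γ(Y, C.V)}, v ≠ 0 → g v ≠ 0 := fun hv h =>
    hv (IsFractionRing.to_map_eq_zero_iff.mp h)
  refine ⟨W', h1, w, g r / (g a * g s.1), hW', hxW', hw, div_ne_zero (hg hr0) (mul_ne_zero (hg ha) (hg hs0)), ?_⟩
  -- on the fibre
  set ι := f.fiberι C.η
  have hres : ∀ v : Γ(Y, C.V), ι.app W' (X.presheaf.map (homOfLE h1).op (res' f C hle v)) = sc f C.η W' (g v) := by
    intro v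
    rw [← app_res f C.η h1, Φ_res' f C hle v]
    exact fres_sc f C.η h1 _
  have hu : IsUnit (sc f C.η W' (g a * g s.1)) := (IsUnit.mk0 _ (mul_ne_zero (hg ha) (hg hs0))).map _
  refine hu.mul_right_cancel ?_
  rw [← map_mul (sc f C.η W') (g r / (g a * g s.1)), div_mul_cancel₀ (g r) (mul_ne_zero (hg ha) (hg hs0)), map_mul, ← hres a, ← hres s.1, ← hres r]
  have h4 := congrArg (ι.app W').hom hkey
  rw [map_mul, map_mul] at h4
  rw [← h4]
  have h5 := congrArg (fres f C.η (ι.preimage_mono h1)) hab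
  rw [map_mul, app_res f C.η h1, app_res f C.η h1] at h5
  rw [← h5]
  ring

end Groth.Agent.DescFlat
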