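import Groth.Agent.S7819
import Groth.Agent.S1582
import Groth.Agent.PicLaw.Basic
import Mathlib.AlgebraicGeometry.AlgClosed.Basic

/-!
# Invertible modules on products with a rational variety
-/

set_option autoImplicit false
set_option linter.style.haveILetI false
set_option backward.isDefEq.respectTransparency false
set_option backward.isDefEq.respectTransparency.types false

universe u

open CategoryTheory CategoryTheory.Limits AlgebraicGeometry TopologicalSpace

noncomputable section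

namespace Groth.Agent.DescFlat

variable {k : Type u} [Field k]

theorem pullHom_congr {A B : Scheme.{u}} [PicGrp.Law A] [PicGrp.Law B] {g g' : A ⟶ B} (e : g = g')
    (h : PicGrp.PullMul g) (h' : PicGrp.PullMul g') (c : PicLoc.PicSet B) :
    PicGrp.pullHom g h c = PicGrp.pullHom g' h' c := by
  subst e; rfl

/-- Invertible modules on the spectrum of a field are trivial. -/
theorem pullHom_eq_one {A B : Scheme.{u}} [PicGrp.Law A] [PicGrp.Law B] (a : A ⟶ Spec (CommRingCat.of k))
    (b : Spec (CommRingCat.of k) ⟶ B) (h : PicGrp.PullMul (a ≫ b)) (c : PicLoc.PicSet B) :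
    PicGrp.pullHom (a ≫ b) h c = 1 := by
  obtain ⟨L, hL, rfl⟩ := PicGrp.exists_eq_cls c
  rw [PicGrp.pullHom_cls, PicGrp.cls_eq_one_iff]
  obtain ⟨U, e, hU, he⟩ := Props.GenLocus.exists_isGen (PicCl.isInvertible_pullback b hL)
    (IsLocalRing.closedPoint k)
  have htop : U = ⊤ := top_le_iff.mp fun z _ => Subsingleton.elim (IsLocalRing.closedPoint k) z ▸ hU
  subst htop
  obtain ⟨i⟩ := PerfSch.DescSec.nonempty_iso_of_isGen he
  exact ⟨((Scheme.Modules.pullbackComp a b).app L).symm ≪≫ (Scheme.Modules.pullback a).mapIso i.symm ≪≫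
    QCoh.pullbackUnitIso a⟩

variable [IsAlgClosed k]

/-- A rational point in a nonempty open. -/
theorem exists_point {X : Scheme.{u}} (f : X ⟶ Spec (CommRingCat.of k)) [LocallyOfFiniteType f] (U : X.Opens)
    (hU : (U : Set X).Nonempty) :
    ∃ p : Spec (CommRingCat.of k) ⟶ (U : Scheme.{u}), p ≫ U.ι ≫ f = 𝟙 _ := by
  haveI : JacobsonSpace X := LocallyOfFiniteType.jacobsonSpace f
  obtain ⟨x, hxU, hx⟩ := nonempty_inter_closedPoints hU U.2.isLocallyClosed
  let p : Spec (CommRingCat.of k) ⟶ X := pointOfClosedPoint f x hx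
  have hp : Set.range p ⊆ Set.range U.ι := by
    rintro _ ⟨t, rfl⟩
    rw [U.range_ι, pointOfClosedPoint_apply f x hx t]
    exact hxU
  exact ⟨IsOpenImmersion.lift U.ι p hp, by
    rw [← Category.assoc, IsOpenImmersion.lift_fac]; exact pointOfClosedPoint_comp f x hx⟩

variable {X Y : Scheme.{u}} (fX : X ⟶ Spec (CommRingCat.of k)) (fY : Y ⟶ Spec (CommRingCat.of k))
  [IsIntegral X] [IsSeparated fX] [LocallyOfFiniteType fX] [QuasiCompact fX]
  [IsIntegral Y] [IsSeparated fY] [LocallyOfFiniteType fY] [QuasiCompact fY]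

/-- An invertible module trivial on a product with a nonempty open comes from the other factor. -/
theorem exists_from_fst (hX : Pi1.IsNormalScheme X) {P : Scheme.{u}} (φ : P ⟶ pullback fX fY)
    [IsOpenImmersion φ] (U : X.Opens) (hU : (U : Set X).Nonempty)
    (hrange : (pullback.fst fX fY) ⁻¹' (U : Set X) ⊆ Set.range φ) (L : (pullback fX fY).Modules)
    (hL : PicF.IsInvertible L) (htriv : Nonempty ((Scheme.Modules.pullback φ).obj L ≅ Coh.structureModule P)) :
    ∃ M : X.Modules, PicF.IsInvertible M ∧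
      Nonempty ((Scheme.Modules.pullback (pullback.fst fX fY)).obj M ≅ L) := by
  haveI : GeometricallyIrreducible fY := FBase.BC.geometricallyIrreducible_of_isSepClosed fY
  haveI : GeometricallyReduced fY := FBase.BC.geometricallyReduced_of_isReduced_of_perfectField fY
  haveI : GeometricallyIntegral fY := GeometricallyIntegral.of_geometricallyReduced_of_geometricallyIrreducible _
  haveI : IsLocallyNoetherian X := LocallyOfFiniteType.isLocallyNoetherian fX
  set p := pullback.fst fX fY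
  haveI : LocallyOfFiniteType p := MorphismProperty.pullback_fst _ _ inferInstance
  haveI : QuasiCompact p := MorphismProperty.pullback_fst _ _ inferInstance
  haveI : Flat fY := inferInstance
  haveI : Flat p := MorphismProperty.pullback_fst _ _ inferInstance
  haveI : IsLocallyNoetherian (pullback fX fY) := LocallyOfFiniteType.isLocallyNoetherian p
  obtain ⟨σ, hσ⟩ : ∃ σ : Triv p L, ∀ η h, Props.GenLocus.IsGen _ ⊤ (σ η h) := by
    have hη : ∀ η : X, IsMax η → Nonempty ((Scheme.Modules.pullback (p.fiberι η)).obj L ≅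
        Coh.structureModule (p.fiber η)) := by
      intro η hη
      obtain ⟨x, hx⟩ := hU
      have hgp : genericPoint X = η := hη _ ((genericPoint_spec X).specializes trivial)
      have hηU : η ∈ U := hgp ▸ ((genericPoint_spec X).specializes trivial).mem_open U.2 hx
      have hsub : Set.range (p.fiberι η) ⊆ Set.range φ := by
        rintro _ ⟨w, rfl⟩
        refine hrange ?_
        have hw : p.fiberι η w ∈ p ⁻¹' {η} := p.range_fiberι η ▸ ⟨w, rfl⟩
        show p (p.fiberι η w) ∈ (U : Set X)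
        rw [show p (p.fiberι η w) = η from hw]
        exact hηU
      obtain ⟨i⟩ := htriv
      exact ⟨(Scheme.Modules.pullbackCongr (IsOpenImmersion.lift_fac φ _ hsub).symm).app L ≪≫
        ((Scheme.Modules.pullbackComp _ φ).app L).symm ≪≫ (Scheme.Modules.pullback _).mapIso i ≪≫
        QCoh.pullbackUnitIso _⟩
    choose σ hσ using fun (η : X) (h : IsMax η) =>
      PerfSch.DescSec.exists_isGen_of_iso (hη η h).some.symm
    exact ⟨σ, hσ⟩
  exact exists_descent σ hσ hX (fun y _ => inferInstance) (Or.inl inferInstance) hL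

variable [PicGrp.Law X] [PicGrp.Law Y] [PicGrp.Law (pullback fX fY)]

/-- The Picard group of a product with a rational variety. -/
theorem bijective_prod (hX : Pi1.IsNormalScheme X) (hY : Pi1.IsNormalScheme Y) (U : X.Opens) (n : ℕ)
    (V : (𝔸(ULift.{u} (Fin n); Spec (CommRingCat.of k))).Opens) (e : (U : Scheme.{u}) ≅ (V : Scheme.{u}))
    (hU : (U : Set X).Nonempty)
    (he : e.hom ≫ V.ι ≫ (𝔸(ULift.{u} (Fin n); Spec (CommRingCat.of k)) ↘ Spec (CommRingCat.of k)) = U.ι ≫ fX)
    (h₁ : PicGrp.PullMul (pullback.fst fX fY)) (h₂ : PicGrp.PullMul (pullback.snd fX fY)) :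
    Function.Bijective (fun cd : PicLoc.PicSet X × PicLoc.PicSet Y =>
      PicGrp.pullHom (pullback.fst fX fY) h₁ cd.1 * PicGrp.pullHom (pullback.snd fX fY) h₂ cd.2) := by
  obtain ⟨p₀, hp₀⟩ := exists_point fX U hU
  obtain ⟨q₀, hq₀⟩ := exists_point fY ⊤ ⟨genericPoint Y, trivial⟩
  set π := V.ι ≫ (𝔸(ULift.{u} (Fin n); Spec (CommRingCat.of k)) ↘ Spec (CommRingCat.of k)) with hπ
  let x₀ := p₀ ≫ U.ι
  let y₀ := q₀ ≫ (⊤ : Y.Opens).ι
  have hx₀ : x₀ ≫ fX = 𝟙 _ := by rw [Category.assoc]; exact hp₀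
  have hy₀ : y₀ ≫ fY = 𝟙 _ := by rw [Category.assoc]; exact hq₀
  let sX : X ⟶ pullback fX fY := pullback.lift (𝟙 X) (fX ≫ y₀) (by rw [Category.assoc, hy₀, Category.comp_id, Category.id_comp])
  let sY : Y ⟶ pullback fX fY := pullback.lift (fY ≫ x₀) (𝟙 Y) (by rw [Category.assoc, hx₀, Category.comp_id, Category.id_comp])
  have hsX1 : sX ≫ pullback.fst fX fY = 𝟙 X := pullback.lift_fst _ _ _
  have hsX2 : sX ≫ pullback.snd fX fY = fX ≫ y₀ := pullback.lift_snd _ _ _
  have hsY1 : sY ≫ pullback.fst fX fY = fY ≫ x₀ := pullback.lift_fst _ _ _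
  have hsY2 : sY ≫ pullback.snd fX fY = 𝟙 Y := pullback.lift_snd _ _ _
  -- restriction to the sections
  have hA : ∀ c d, PicGrp.pullHom sX (PicLaw.pullMul sX)
      (PicGrp.pullHom (pullback.fst fX fY) h₁ c * PicGrp.pullHom (pullback.snd fX fY) h₂ d) = c := fun c d => by
    rw [map_mul, ← PicGrp.pullHom_comp_apply _ _ (PicLaw.pullMul sX) h₁ (PicLaw.pullMul _),
      ← PicGrp.pullHom_comp_apply _ _ (PicLaw.pullMul sX) h₂ (PicLaw.pullMul _),
      pullHom_congr hsX1 _ (PicGrp.pullMul_id X), PicGrp.pullHom_id_apply,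
      pullHom_congr hsX2 _ (PicLaw.pullMul _), pullHom_eq_one, mul_one]
  have hB : ∀ c d, PicGrp.pullHom sY (PicLaw.pullMul sY)
      (PicGrp.pullHom (pullback.fst fX fY) h₁ c * PicGrp.pullHom (pullback.snd fX fY) h₂ d) = d := fun c d => by
    rw [map_mul, ← PicGrp.pullHom_comp_apply _ _ (PicLaw.pullMul sY) h₁ (PicLaw.pullMul _),
      ← PicGrp.pullHom_comp_apply _ _ (PicLaw.pullMul sY) h₂ (PicLaw.pullMul _),
      pullHom_congr hsY2 _ (PicGrp.pullMul_id Y), PicGrp.pullHom_id_apply,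
      pullHom_congr hsY1 _ (PicLaw.pullMul _), pullHom_eq_one, one_mul]
  refine ⟨fun cd cd' h => ?_, fun z => ?_⟩
  · exact Prod.ext ((hA cd.1 cd.2).symm.trans ((congrArg (fun t => PicGrp.pullHom sX (PicLaw.pullMul sX) t) h).trans (hA cd'.1 cd'.2)))
      ((hB cd.1 cd.2).symm.trans ((congrArg (fun t => PicGrp.pullHom sY (PicLaw.pullMul sY) t) h).trans (hB cd'.1 cd'.2)))
  -- surjectivity
  letI := PicLaw.law (pullback fY (V.ι ≫ (𝔸(ULift.{u} (Fin n); Spec (CommRingCat.of k)) ↘ Spec (CommRingCat.of k))))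
  haveI : IsNoetherian Y :=
    { toCompactSpace := QuasiCompact.compactSpace_of_compactSpace fY
      toIsLocallyNoetherian := LocallyOfFiniteType.isLocallyNoetherian fY }
  let φ : pullback fY π ⟶ pullback fX fY := pullback.lift (pullback.snd fY π ≫ e.inv ≫ U.ι) (pullback.fst fY π)
    (by rw [Category.assoc, Category.assoc, ← he, e.inv_hom_id_assoc, pullback.condition])
  have hφ1 : φ ≫ pullback.fst fX fY = pullback.snd fY π ≫ e.inv ≫ U.ι := pullback.lift_fst _ _ _
  have hφ2 : φ ≫ pullback.snd fX fY = pullback.fst fY π := pullback.lift_snd _ _ _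
  have hsq : IsPullback φ (pullback.snd fY π) (pullback.fst fX fY) (e.inv ≫ U.ι) := by
    refine IsPullback.of_right ?_ hφ1 (IsPullback.of_hasPullback fX fY).flip
    rw [hφ2, show (e.inv ≫ U.ι) ≫ fX = π by rw [Category.assoc, ← he, e.inv_hom_id_assoc]]
    exact IsPullback.of_hasPullback fY π
  haveI : IsOpenImmersion φ := MorphismProperty.of_isPullback (P := @IsOpenImmersion) hsq.flip inferInstance
  have hrange : (pullback.fst fX fY) ⁻¹' (U : Set X) ⊆ Set.range φ := by
    rw [← hsq.isoPullback_hom_fst, Scheme.Hom.comp_base, TopCat.coe_comp, Set.range_comp,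
      Set.range_eq_univ.mpr hsq.isoPullback.hom.surjective, Set.image_univ, Scheme.Pullback.range_fst]
    intro w hw
    obtain ⟨v, hv⟩ : pullback.fst fX fY w ∈ Set.range U.ι := U.range_ι.symm ▸ hw
    exact ⟨e.hom v, by rw [← Scheme.Hom.comp_apply, e.hom_inv_id_assoc]; exact hv⟩
  let u₀ : Spec (CommRingCat.of k) ⟶ (V : Scheme.{u}) := p₀ ≫ e.hom
  have hu₀ : u₀ ≫ π = 𝟙 _ := by rw [Category.assoc, hπ, he]; exact hp₀
  let s : Y ⟶ pullback fY π := pullback.lift (𝟙 Y) (fY ≫ u₀) (by rw [Category.assoc, hu₀, Category.comp_id, Category.id_comp])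
  have hs1 : s ≫ pullback.fst fY π = 𝟙 Y := pullback.lift_fst _ _ _
  have hs2 : s ≫ pullback.snd fY π = fY ≫ u₀ := pullback.lift_snd _ _ _
  have hsφ : s ≫ φ = sY := by
    refine pullback.hom_ext ?_ ?_
    · rw [Category.assoc, hφ1, reassoc_of% hs2, hsY1]
      simp [u₀, x₀]
    · rw [Category.assoc, hφ2, hs1, hsY2]
  set d := PicGrp.pullHom sY (PicLaw.pullMul sY) z with hd
  -- the class on the open part
  obtain ⟨N, ⟨hN, hNz⟩, -⟩ := Groth.Agent.S7819.result (Spec (CommRingCat.of k)) n V u₀ hu₀ fY hY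
    (PicGrp.pullHom φ (PicLaw.pullMul φ) z).1 (PicGrp.pullHom φ (PicLaw.pullMul φ) z).2
  let N' : PicLoc.PicSet Y := ⟨N, hN⟩
  have h3 : PicGrp.pullHom (pullback.fst fY π) (PicLaw.pullMul _) N' = PicGrp.pullHom φ (PicLaw.pullMul φ) z :=
    Subtype.ext hNz
  have h4 : N' = d := by
    have h5 := congrArg (PicGrp.pullHom s (PicLaw.pullMul s)) h3
    rw [← PicGrp.pullHom_comp_apply _ _ (PicLaw.pullMul s) (PicLaw.pullMul _) (PicLaw.pullMul _),
      ← PicGrp.pullHom_comp_apply _ _ (PicLaw.pullMul s) (PicLaw.pullMul φ) (PicLaw.pullMul _),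
      pullHom_congr hs1 _ (PicGrp.pullMul_id Y), PicGrp.pullHom_id_apply,
      pullHom_congr hsφ _ (PicLaw.pullMul sY)] at h5
    exact h5
  obtain ⟨L, hL, hLz⟩ := PicGrp.exists_eq_cls (z * (PicGrp.pullHom (pullback.snd fX fY) h₂ d)⁻¹)
  have h6 : PicGrp.pullHom φ (PicLaw.pullMul φ) (PicGrp.cls L hL) = 1 := by
    rw [← hLz, map_mul, map_inv, ← PicGrp.pullHom_comp_apply _ _ (PicLaw.pullMul φ) h₂ (PicLaw.pullMul _),
      pullHom_congr hφ2 _ (PicLaw.pullMul _), ← h4, h3, mul_inv_cancel]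
  rw [PicGrp.pullHom_cls, PicGrp.cls_eq_one_iff] at h6
  obtain ⟨M, hM, ⟨i⟩⟩ := exists_from_fst fX fY hX φ U hU hrange L hL h6
  refine ⟨(PicGrp.cls M hM, d), ?_⟩
  show PicGrp.pullHom _ h₁ (PicGrp.cls M hM) * _ = z
  rw [PicGrp.pullHom_cls, (PicGrp.cls_eq_cls_iff _ hL).mpr ⟨i⟩, ← hLz, inv_mul_cancel_right]

end Groth.Agent.DescFlat
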