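import Groth.Agent.DescFlat.Local
import Groth.Agent.InvExt.Local
import Groth.Agent.RatMapExt.Sections

/-!
# Spreading rational functions of the base attached to local data upstairs
-/

set_option autoImplicit false
set_option linter.style.haveILetI false

universe u

open CategoryTheory AlgebraicGeometry Opposite TopologicalSpace

noncomputable section

namespace Groth.Agent.DescFlat

open Groth.Agent.InvExt Groth.Agent.FlatPull Groth.Agent.Ref1

variable {X Y : Scheme.{u}} (f : X ⟶ Y)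

lemma unAt_mul (C : Chart Y) {z : Y} (hz : z ∈ C.V) {a b : Y.presheaf.stalk C.η}
    (ha : UnAt C.η z a) (hb : UnAt C.η z b) : UnAt C.η z (a * b) := by
  letI := C.fieldK
  exact (C.un_iff hz _).mp (((C.un_iff hz _).mpr ha).mul ((C.un_iff hz _).mpr hb))

/-- Rational functions comparable at height one points are comparable. -/
theorem unAt_of_height_one [IsLocallyNoetherian Y] (hY : Pi1.IsNormalScheme Y) (C : Chart Y) {z : Y}
    (hz : z ∈ C.V) {c : Y.presheaf.stalk C.η} (hc : c ≠ 0)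
    (h : ∀ y' : Y, y' ⤳ z → ringKrullDim (Y.presheaf.stalk y') = 1 → UnAt C.η y' c) :
    UnAt C.η z c := by
  letI := C.fieldK
  obtain ⟨_, _⟩ := hY z
  let σ := spR (X := Y) (C.specializes hz)
  have hσ : Function.Injective σ := C.specializes_injective hz
  obtain ⟨r, s, hs, hrs⟩ := IsFractionRing.div_surjective (A := Γ(Y, C.V)) c
  have hs0 : s ≠ 0 := nonZeroDivisors.ne_zero hs
  have hr0 : r ≠ 0 := fun h0 => hc (by rw [← hrs, h0, map_zero, zero_div])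
  let r' := Y.presheaf.germ C.V z hz r
  let s' := Y.presheaf.germ C.V z hz s
  have hgen : ∀ v : Γ(Y, C.V), σ (Y.presheaf.germ C.V z hz v) = algebraMap Γ(Y, C.V) _ v := fun v =>
    ConcreteCategory.congr_hom (TopCat.Presheaf.germ_stalkSpecializes Y.presheaf hz (C.specializes hz)) v
  have hcs : c * σ s' = σ r' := by
    rw [hgen, hgen, ← hrs, div_mul_cancel₀]
    exact IsFractionRing.to_map_ne_zero_of_mem_nonZeroDivisors hs
  have hdiv : ∀ P : Ideal (Y.presheaf.stalk z), P.IsPrime → P.height = 1 →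
      (∃ t ∉ P, s' ∣ t * r') ∧ (∃ t ∉ P, r' ∣ t * s') := by
    intro P hP hh
    obtain ⟨y', hy', rfl⟩ := exists_point z P
    have hdim : ringKrullDim (Y.presheaf.stalk y') = 1 := by rw [ringKrullDim_eq_height hy', hh]; rfl
    obtain ⟨hs', w, hw, hwc⟩ := h y' hy' hdim
    have hyV : y' ∈ C.V := hy'.mem_open C.V.2 hz
    have hinj : Function.Injective (spR (X := Y) hs') := C.specializes_injective hyV
    have h1 : spR hy' r' = w * spR hy' s' := by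
      refine hinj ?_
      rw [map_mul, spR_spR, spR_spR, show spR hs' w = c from hwc]
      exact hcs.symm
    constructor
    · obtain ⟨t, ht, htd⟩ := exists_mul_mem_map hy' (Ideal.span {s'}) (b := r') (by
        rw [Ideal.map_span, Set.image_singleton, Ideal.mem_span_singleton, h1]
        exact dvd_mul_left _ _)
      exact ⟨t, ht, Ideal.mem_span_singleton.mp htd⟩
    · obtain ⟨t, ht, htd⟩ := exists_mul_mem_map hy' (Ideal.span {r'}) (b := s') (by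
        rw [Ideal.map_span, Set.image_singleton, Ideal.mem_span_singleton, h1]
        exact (hw.mul_left_dvd).mpr dvd_rfl)
      exact ⟨t, ht, Ideal.mem_span_singleton.mp htd⟩
  have hs'0 : s' ≠ 0 := germ_ne_zero C hz hs0
  have hr'0 : r' ≠ 0 := germ_ne_zero C hz hr0
  obtain ⟨d, hd⟩ := dvd_of_height_one hs'0 fun P hP hh => (hdiv P hP hh).1
  obtain ⟨e, he⟩ := dvd_of_height_one hr'0 fun P hP hh => (hdiv P hP hh).2
  have hde : d * e = 1 := by
    refine mul_left_cancel₀ hs'0 ?_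
    rw [mul_one, ← mul_assoc, ← hd, ← he]
  refine ⟨C.specializes hz, d, IsUnit.of_mul_eq_one e hde, ?_⟩
  have h2 := congrArg σ hd
  rw [map_mul, ← hcs, mul_comm (σ s')] at h2
  exact (mul_right_cancel₀ (fun h0 => hs'0 (hσ (h0.trans (map_zero σ).symm))) h2).symm

/-- Local data upstairs with rational functions of the base attached. -/
structure Data (f : X ⟶ Y) where
  /-- `W` carries data with rational function `c`. -/
  P : ∀ η : Y, X.Opens → Y.presheaf.stalk η → Prop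
  exists_data : ∀ (C : Chart Y) (x : X), f x ∈ C.V → ∃ (W : X.Opens) (c : Y.presheaf.stalk C.η),
    x ∈ W ∧ c ≠ 0 ∧ P C.η W c
  compat : ∀ (C : Chart Y) (W W' : X.Opens) (c c' : Y.presheaf.stalk C.η) (z : X), z ∈ W → z ∈ W' →
    f z ∈ C.V → c ≠ 0 → c' ≠ 0 → P C.η W c → P C.η W' c' → ∃ u, UnAt C.η (f z) u ∧ c' = u * c

variable {f}

/-- Near a point of the base one rational function works. -/
theorem Data.exists_nhd (D : Data f) [Flat f] [Surjective f] [IsLocallyNoetherian Y] (hY : Pi1.IsNormalScheme Y)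
    (hfib : ∀ y : Y, ringKrullDim (Y.presheaf.stalk y) = 1 → IsIntegral (f.fiber y))
    (hf : QuasiCompact f ∨ IsOpenMap f) (y : Y) :
    ∃ (C : Chart Y) (V : Y.Opens) (c₀ : Y.presheaf.stalk C.η), y ∈ V ∧ V ≤ C.V ∧ c₀ ≠ 0 ∧
      ∀ (x : X) (W : X.Opens) (c : Y.presheaf.stalk C.η), x ∈ W → f x ∈ V → c ≠ 0 → D.P C.η W c →
        ∃ u, UnAt C.η (f x) u ∧ c = u * c₀ := by
  classical
  obtain ⟨_, -⟩ := hY y
  obtain ⟨C, hyV₀⟩ : ∃ C : Chart Y, y ∈ C.V := by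
    obtain ⟨V₀, hV₀, hdom, hy, -⟩ := RatMapExt.exists_affine_domain_nhd y ⊤ trivial
    exact ⟨⟨V₀, hV₀, hdom⟩, hy⟩
  haveI := C.isNoetherianRing
  letI := C.fieldK
  have hdat : ∀ x : (f ⁻¹ᵁ C.V : X.Opens), ∃ (W : X.Opens) (c : Y.presheaf.stalk C.η),
      x.1 ∈ W ∧ c ≠ 0 ∧ D.P C.η W c := fun x => D.exists_data C x.1 x.2
  choose W c hxW hc0 hP using hdat
  obtain ⟨x₀, hx₀⟩ := f.surjective y
  let i₀ : (f ⁻¹ᵁ C.V : X.Opens) := ⟨x₀, show f x₀ ∈ C.V by rw [hx₀]; exact hyV₀⟩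
  -- data over the same point of the base differ by units
  have same : ∀ (W₁ W₂ : X.Opens) (c₁ c₂ : Y.presheaf.stalk C.η), c₁ ≠ 0 → c₂ ≠ 0 →
      D.P C.η W₁ c₁ → D.P C.η W₂ c₂ → ∀ x z : X, x ∈ W₁ → z ∈ W₂ → f x ∈ C.V → f x = f z →
        UnAt C.η (f x) (c₁ / c₂) := by
    intro W₁ W₂ c₁ c₂ h₁ h₂ hP₁ hP₂ x z hx hz hxV he
    refine unAt_of_height_one hY C hxV (div_ne_zero h₁ h₂) fun y' hy' hdim => ?_
    haveI := hfib y' hdim
    obtain ⟨x', hx', hx'y⟩ := exists_lift f x hy'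
    obtain ⟨z', hz', hz'y⟩ := exists_lift f z (he ▸ hy' : y' ⤳ f z)
    let g : X := f.fiberι y' (genericPoint (f.fiber y'))
    have hgy : f g = y' := by
      have : g ∈ f ⁻¹' {y'} := f.range_fiberι y' ▸ ⟨_, rfl⟩
      exact this
    have hg : ∀ w, f w = y' → g ⤳ w := fun w hw => by
      obtain ⟨v, rfl⟩ : w ∈ Set.range (f.fiberι y') := by rw [f.range_fiberι y']; exact hw
      exact ((genericPoint_spec _).specializes trivial).map (f.fiberι y').continuous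
    obtain ⟨u, hu, hu'⟩ := D.compat C W₂ W₁ c₂ c₁ g (((hg z' hz'y).trans hz').mem_open W₂.2 hz)
      (((hg x' hx'y).trans hx').mem_open W₁.2 hx) (by rw [hgy]; exact hy'.mem_open C.V.2 hxV) h₂ h₁ hP₂ hP₁
    rw [hgy] at hu
    rwa [hu', mul_div_cancel_right₀ _ h₂]
  suffices H : ∃ V : Y.Opens, y ∈ V ∧ V ≤ C.V ∧ ∀ y'' ∈ V, ∃ i, y'' = f i.1 ∧
      UnAt C.η y'' (c i / c i₀) by
    obtain ⟨V, hyV, hVC, hV⟩ := H
    refine ⟨C, V, c i₀, hyV, hVC, hc0 i₀, fun x Wx cx hx hxV hcx hPx => ?_⟩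
    obtain ⟨i, hi, hu⟩ := hV _ hxV
    have hxC : f x ∈ C.V := hVC hxV
    have h1 := same Wx (W i) cx (c i) hcx (hc0 i) hPx (hP i) x i.1 hx (hxW i) hxC hi
    refine ⟨cx / c i * (c i / c i₀), unAt_mul C hxC h1 hu, ?_⟩
    rw [div_mul_div_cancel₀ (hc0 i), div_mul_cancel₀ _ (hc0 i₀)]
  rcases hf with hf | hf
  swap
  · refine ⟨C.V ⊓ ⟨f '' (W i₀ : Set X), hf _ (W i₀).2⟩, ⟨hyV₀, x₀, hxW i₀, hx₀⟩, inf_le_left, ?_⟩
    rintro y'' ⟨hy''V, z, hz, rfl⟩
    exact ⟨⟨z, hy''V⟩, rfl, same _ _ _ _ (hc0 _) (hc0 i₀) (hP _) (hP i₀) z z (hxW ⟨z, hy''V⟩) hz hy''V rfl⟩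
  -- the quasi-compact case
  have hcpt : IsCompact ((f ⁻¹ᵁ C.V : X.Opens) : Set X) :=
    QuasiCompact.isCompact_preimage (f := f) _ C.V.2 C.affine.isCompact
  obtain ⟨F, hF⟩ := hcpt.elim_finite_subcover (fun i => (W i : Set X)) (fun i => (W i).2)
    fun x hx => Set.mem_iUnion.mpr ⟨⟨x, hx⟩, hxW ⟨x, hx⟩⟩
  have hrs : ∀ i, ∃ r s : Γ(Y, C.V), r ≠ 0 ∧ s ≠ 0 ∧ c i / c i₀ = C.toK r / C.toK s := by
    intro i
    obtain ⟨r, s, hs, hrs⟩ := IsFractionRing.div_surjective (A := Γ(Y, C.V)) (c i / c i₀)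
    exact ⟨r, s, fun h0 => div_ne_zero (hc0 i) (hc0 i₀) (by rw [← hrs, h0, map_zero, zero_div]),
      nonZeroDivisors.ne_zero hs, hrs.symm⟩
  choose r s hr0 hs0 hrs using hrs
  let q := (C.pr y hyV₀).asIdeal
  have hfin : ∀ i, ∃ S : Finset (Ideal Γ(Y, C.V)), (∀ p ∈ S, p.IsPrime ∧ p.height = 1) ∧
      ∀ p : Ideal Γ(Y, C.V), p.IsPrime → p.height = 1 → r i * s i ∈ p → p ∈ S :=
    fun i => exists_finset_height_one (mul_ne_zero (hr0 i) (hs0 i))
  choose S hSp hS using hfin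
  let G := (F.biUnion S).filter fun p => ¬ p ≤ q
  have ht : ∀ p ∈ G, ∃ t : Γ(Y, C.V), t ∈ p ∧ t ∉ q := fun p hp =>
    SetLike.not_le_iff_exists.mp (Finset.mem_filter.mp hp).2
  choose t htp htq using ht
  let T := ∏ p ∈ G.attach, t p.1 p.2
  have hTq : T ∉ q := show T ∈ q.primeCompl from prod_mem fun p _ => htq _ _
  have hTp : ∀ p ∈ G, T ∈ p := fun p hp =>
    Ideal.mem_of_dvd p (Finset.dvd_prod_of_mem _ (Finset.mem_attach G ⟨p, hp⟩)) (htp p hp)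
  have hbo : ∀ p : PrimeSpectrum Γ(Y, C.V), C.pt p ∈ Y.basicOpen T ↔ T ∉ p.asIdeal := fun p => by
    change p ∈ C.affine.fromSpec ⁻¹ᵁ Y.basicOpen T ↔ _
    rw [C.affine.fromSpec_preimage_basicOpen]
    exact Iff.rfl
  refine ⟨Y.basicOpen T, ?_, Y.basicOpen_le T, fun y'' hy'' => ?_⟩
  · have h1 := (hbo (C.pr y hyV₀)).mpr hTq
    rwa [C.pt_pr] at h1
  obtain ⟨x, rfl⟩ := f.surjective y''
  have hxC : f x ∈ C.V := Y.basicOpen_le T hy''
  obtain ⟨i, hiF, hxi⟩ := Set.mem_iUnion₂.mp (hF (show x ∈ (f ⁻¹ᵁ C.V : X.Opens) from hxC))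
  refine ⟨⟨x, hxC⟩, rfl, ?_⟩
  have h1 := same _ (W i) _ _ (hc0 _) (hc0 i) (hP ⟨x, hxC⟩) (hP i) x x (hxW ⟨x, hxC⟩) hxi hxC rfl
  rw [← div_mul_div_cancel₀ (hc0 i)]
  refine unAt_mul C hxC h1 (unAt_of_height_one hY C hxC (div_ne_zero (hc0 i) (hc0 i₀)) fun y' hy' hdim => ?_)
  have hy'C : y' ∈ C.V := hy'.mem_open C.V.2 hxC
  let p := C.pr y' hy'C
  have hph : p.asIdeal.height = 1 := by
    rw [C.ringKrullDim_stalk hy'C] at hdim
    exact_mod_cast hdim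
  rw [← C.un_iff hy'C]
  by_cases hrp : r i * s i ∈ p.asIdeal
  swap
  · rw [hrs i]
    exact (Un.of_notMem fun h => hrp (Ideal.mul_mem_right _ _ h)).div
      (Un.of_notMem fun h => hrp (Ideal.mul_mem_left _ _ h))
  have hpq : p.asIdeal ≤ q := by
    by_contra hpq
    have hmem : p.asIdeal ∈ G := Finset.mem_filter.mpr
      ⟨Finset.mem_biUnion.mpr ⟨i, hiF, hS i _ p.2 hph hrp⟩, hpq⟩
    refine (hbo p).mp ?_ (hTp _ hmem)
    rw [C.pt_pr]
    exact hy'.mem_open (Y.basicOpen T).2 hy''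
  have hy'y : y' ⤳ f x₀ := by
    rw [hx₀, ← C.pt_pr hy'C, ← C.pt_pr hyV₀]
    exact C.pt_specializes.mpr hpq
  obtain ⟨x', hx', hx'y⟩ := exists_lift f x hy'
  obtain ⟨z', hz', hz'y⟩ := exists_lift f x₀ hy'y
  have h2 := same (W i) (W i₀) _ _ (hc0 i) (hc0 i₀) (hP i) (hP i₀) x' z'
    (hx'.mem_open (W i).2 hxi) (hz'.mem_open (W i₀).2 (hxW i₀)) (hx'y ▸ hy'C) (hx'y.trans hz'y.symm)
  rw [hx'y] at h2
  exact (C.un_iff hy'C _).mpr h2

end Groth.Agent.DescFlat
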